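import Cfsg.Agent.H535.MersOrd

/-!
Orders of groups of Lie type in odd characteristic dividing `|GL(n,2)|` and divisible by the prime `2 ^ n - 1`.
-/

set_option autoImplicit false

namespace Cfsg.Agent.H535.Mers

open Cfsg Cfsg.Agent.NotCT

theorem sq_le_three_pow {p : ℕ} (hp : 3 ≤ p) : p ^ 2 ≤ 3 ^ (p - 1) := by
  induction p, hp using Nat.le_induction with
  | base => norm_num
  | succ p hp ih =>
    obtain ⟨m, rfl⟩ := Nat.exists_eq_add_of_le' (show 1 ≤ p by omega)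
    simp only [Nat.add_sub_cancel] at ih ⊢
    have h3 : 3 ^ (m + 1) = 3 * 3 ^ m := by ring
    rw [h3]
    nlinarith

theorem exp_ineq {e : ℕ} (he : 2 ≤ e) : (2 ^ e - 1) ^ 10 * 3 ^ 5 ≤ 2 ^ (12 * e) := by
  rcases (by omega : e = 2 ∨ e = 3 ∨ 4 ≤ e) with rfl | rfl | h
  · norm_num
  · norm_num
  · calc (2 ^ e - 1) ^ 10 * 3 ^ 5 ≤ (2 ^ e) ^ 10 * 2 ^ 8 :=
        Nat.mul_le_mul (Nat.pow_le_pow_left (Nat.sub_le _ _) _) (by norm_num)
      _ ≤ (2 ^ e) ^ 10 * 2 ^ (2 * e) := Nat.mul_le_mul_left _ (Nat.pow_le_pow_right (by norm_num) (by omega))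
      _ = 2 ^ (12 * e) := by rw [← pow_mul, ← pow_add]; congr 1; ring

theorem pA_two_pos (m : ℕ) : 0 < pA 2 m := by
  induction m with
  | zero => simp [pA]
  | succ m ih =>
    rw [pA]
    refine Nat.mul_pos ih ?_
    have : 2 ^ 1 ≤ 2 ^ (m + 2) := Nat.pow_le_pow_right (by norm_num) (by omega)
    omega

section

variable {p e : ℕ} [hp : Fact p.Prime]

/-- the `p`-part of `|GL(n,2)|` -/
theorem val_pA (hp2 : p ≠ 2) (he : 2 ≤ e) (hdvd : ∀ m, p ∣ 2 ^ m - 1 ↔ e ∣ m) (m : ℕ) :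
    padicValNat p (pA 2 m) =
      padicValNat p (2 ^ e - 1) * ((m + 1) / e) + padicValNat p (((m + 1) / e).factorial) := by
  have hodd : Odd p := hp.out.odd_of_ne_two hp2
  induction m with
  | zero =>
    rw [Nat.div_eq_of_lt (by omega)]
    simp [pA]
  | succ m ih =>
    have hne : 2 ^ (m + 2) - 1 ≠ 0 := by
      have : 2 ^ 1 ≤ 2 ^ (m + 2) := Nat.pow_le_pow_right (by norm_num) (by omega)
      omega
    rw [pA, padicValNat.mul (pA_two_pos m).ne' hne, ih]
    by_cases h : e ∣ m + 1 + 1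
    · obtain ⟨j, hj⟩ := h
      have hj0 : j ≠ 0 := by rintro rfl; omega
      have h1 : (m + 1 + 1) / e = (m + 1) / e + 1 := Nat.succ_div_of_dvd ⟨j, hj⟩
      have h2 : (m + 1 + 1) / e = j := by rw [hj]; exact Nat.mul_div_cancel_left _ (by omega)
      have h3 : (m + 1) / e + 1 = j := by rw [← h1, h2]
      have h4 : padicValNat p (2 ^ (m + 2) - 1) = padicValNat p (2 ^ e - 1) + padicValNat p j := by
        rw [show m + 2 = e * j from hj, pow_mul]
        have := padicValNat.pow_sub_pow (p := p) (x := 2 ^ e) (y := 1) hodd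
          (by have : 2 ^ 1 ≤ 2 ^ e := Nat.pow_le_pow_right (by norm_num) (by omega)
              omega) ((hdvd e).2 dvd_rfl) (fun h => hp2 ?_) hj0
        · rwa [one_pow] at this
        · exact (Nat.prime_dvd_prime_iff_eq hp.out Nat.prime_two).1 (hp.out.dvd_of_dvd_pow h)
      have h5 : padicValNat p ((m + 1) / e + 1).factorial =
          padicValNat p j + padicValNat p ((m + 1) / e).factorial := by
        rw [Nat.factorial_succ, padicValNat.mul (Nat.succ_ne_zero _) (Nat.factorial_ne_zero _)]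
        congr 2
      rw [h4, h1, h5]
      ring
    · rw [Nat.succ_div_of_not_dvd h, padicValNat.eq_zero_of_not_dvd (fun h' => h ((hdvd _).1 h')), add_zero]

theorem val_bound (hp2 : p ≠ 2) (he : 2 ≤ e) (hdvd : ∀ m, p ∣ 2 ^ m - 1 ↔ e ∣ m) (m : ℕ) :
    (p ^ padicValNat p (pA 2 m)) ^ 10 ≤ 2 ^ (12 * (m + 1)) := by
  have hp3 : 3 ≤ p := by have := hp.out.two_le; omega
  rw [val_pA hp2 he hdvd m]
  set k := (m + 1) / e with hk
  set c := padicValNat p (2 ^ e - 1) with hc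
  set w := padicValNat p k.factorial with hw
  have h1 : p ^ c ≤ 2 ^ e - 1 := by
    refine Nat.le_of_dvd ?_ pow_padicValNat_dvd
    have : 2 ^ 1 ≤ 2 ^ e := Nat.pow_le_pow_right (by norm_num) (by omega)
    omega
  have h2 : (p - 1) * w ≤ k := by
    rw [hw, sub_one_mul_padicValNat_factorial]
    exact Nat.sub_le _ _
  have h3 : (p ^ w) ^ 2 ≤ 3 ^ k := by
    calc (p ^ w) ^ 2 = (p ^ 2) ^ w := by rw [← pow_mul, ← pow_mul, mul_comm]
      _ ≤ (3 ^ (p - 1)) ^ w := Nat.pow_le_pow_left (sq_le_three_pow hp3) _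
      _ = 3 ^ ((p - 1) * w) := by rw [← pow_mul]
      _ ≤ 3 ^ k := Nat.pow_le_pow_right (by norm_num) h2
  have h4 : e * k ≤ m + 1 := Nat.mul_div_le _ _
  calc (p ^ (c * k + w)) ^ 10 = ((p ^ c) ^ 10) ^ k * ((p ^ w) ^ 2) ^ 5 := by
        rw [← pow_mul, ← pow_mul, ← pow_mul, ← pow_mul, ← pow_mul, ← pow_add]
        congr 1
        ring
    _ ≤ ((2 ^ e - 1) ^ 10) ^ k * (3 ^ k) ^ 5 :=
        Nat.mul_le_mul (Nat.pow_le_pow_left (Nat.pow_le_pow_left h1 _) _) (Nat.pow_le_pow_left h3 _)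
    _ = ((2 ^ e - 1) ^ 10 * 3 ^ 5) ^ k := by
        rw [mul_pow, ← pow_mul 3, ← pow_mul 3, mul_comm k 5]
    _ ≤ (2 ^ (12 * e)) ^ k := Nat.pow_le_pow_left (exp_ineq he) _
    _ = 2 ^ (12 * (e * k)) := by rw [← pow_mul]; congr 1; ring
    _ ≤ 2 ^ (12 * (m + 1)) := Nat.pow_le_pow_right (by norm_num) (Nat.mul_le_mul_left _ h4)

end

/-- **The odd local bound**: `p ^ a ∣ |GL(n,2)|` gives `(p ^ a) ^ 5 ≤ 2 ^ (6 n)`. -/
theorem pow_le_of_dvd_G {p n a : ℕ} (hp : p.Prime) (hp2 : p ≠ 2) (hn : 1 ≤ n) (h : p ^ a ∣ G n) :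
    (p ^ a) ^ 5 ≤ 2 ^ (6 * n) := by
  have : Fact p.Prime := ⟨hp⟩
  have hcop : Nat.Coprime (p ^ a) (2 ^ (n * (n - 1) / 2)) :=
    Nat.Coprime.pow _ _ ((Nat.coprime_primes hp Nat.prime_two).2 hp2)
  have h1 : p ^ a ∣ pA 2 (n - 1) := hcop.dvd_of_dvd_mul_left h
  have h2 : a ≤ padicValNat p (pA 2 (n - 1)) :=
    (padicValNat_dvd_iff_le (pA_two_pos _).ne').1 h1
  have hdvd : ∀ m, p ∣ 2 ^ m - 1 ↔ orderOf (2 : ZMod p) ∣ m := fun m => by
    have := Lib.Zsigmondy.dvd_pow_sub_one_iff (a := 2) (r := p) (by norm_num) m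
    simpa using this
  have h20 : (2 : ZMod p) ≠ 0 := by
    intro h0
    have h3 : ((2 : ℕ) : ZMod p) = 0 := by exact_mod_cast h0
    rw [ZMod.natCast_eq_zero_iff] at h3
    exact hp2 ((Nat.prime_dvd_prime_iff_eq hp Nat.prime_two).1 h3)
  have he : 2 ≤ orderOf (2 : ZMod p) := by
    have h3 : 0 < orderOf (2 : ZMod p) := by
      rw [orderOf_pos_iff, isOfFinOrder_iff_pow_eq_one]
      exact ⟨p - 1, by have := hp.two_le; omega, ZMod.pow_card_sub_one_eq_one h20⟩
    have h4 : orderOf (2 : ZMod p) ≠ 1 := by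
      intro h4
      have h5 := (hdvd 1).2 (by rw [h4])
      norm_num at h5
      exact hp.one_lt.ne' h5
    omega
  have h3 := val_bound (p := p) hp2 he hdvd (n - 1)
  have h4 : (p ^ a) ^ 10 ≤ 2 ^ (12 * n) := by
    calc (p ^ a) ^ 10 ≤ (p ^ padicValNat p (pA 2 (n - 1))) ^ 10 :=
          Nat.pow_le_pow_left (Nat.pow_le_pow_right hp.pos h2) _
      _ ≤ 2 ^ (12 * (n - 1 + 1)) := h3
      _ = 2 ^ (12 * n) := by congr 2; omega
  have h5 : ((p ^ a) ^ 5) ^ 2 ≤ (2 ^ (6 * n)) ^ 2 := by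
    rw [← pow_mul, ← pow_mul (2 : ℕ)]
    calc _ ≤ 2 ^ (12 * n) := h4
      _ = _ := by congr 1; ring
  exact (Nat.pow_le_pow_iff_left (by norm_num)).1 h5

/-! ### the prime `r` -/

/-- exponents bounding the primes dividing the numerator -/
def μ : Typ → ℕ
  | .L n => n
  | .S m => m
  | .U n => if n = 3 then 2 else n
  | .OO m => m
  | .OP m => m
  | .OM m => m
  | .G2 => 3 | .F4 => 12 | .E6 => 12 | .E7 => 18 | .E8 => 30 | .TE6 => 12 | .TD4 => 9 | .SZ => 2 | .TF4 => 6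
  | .RG => 2

section

variable {r q : ℕ} (hr : r.Prime) (hr2 : r ≠ 2) (hq : q % 2 = 1) (hq3 : 3 ≤ q)

include hr hr2 hq hq3

omit hr hr2 hq in
theorem b_sub {i : ℕ} (hi : 1 ≤ i) (h : r ∣ q ^ i - 1) : r + 1 ≤ q ^ i := by
  have h1 : 3 ^ 1 ≤ q ^ i := (Nat.pow_le_pow_right (by norm_num) hi).trans (Nat.pow_le_pow_left hq3 i)
  have h2 := Nat.le_of_dvd (by omega) h
  omega

theorem b_add {i : ℕ} (hi : 1 ≤ i) (h : r ∣ q ^ i + 1) : r + 1 ≤ q ^ i := by
  have h1 : 3 ^ 1 ≤ q ^ i := (Nat.pow_le_pow_right (by norm_num) hi).trans (Nat.pow_le_pow_left hq3 i)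
  have hodd : q ^ i % 2 = 1 := Nat.odd_iff.1 ((Nat.odd_iff.2 hq).pow)
  have h3 : 2 ∣ q ^ i + 1 := by omega
  have h4 : 2 * r ∣ q ^ i + 1 :=
    Nat.Coprime.mul_dvd_of_dvd_of_dvd ((Nat.coprime_primes Nat.prime_two hr).2 (Ne.symm hr2)) h3 h
  have h2 := Nat.le_of_dvd (by omega) h4
  omega

theorem b_two {i : ℕ} (hi : 1 ≤ i) (h : r ∣ q ^ (2 * i) - 1) : r + 1 ≤ q ^ i := by
  have h2 : q ^ (2 * i) - 1 = (q ^ i + 1) * (q ^ i - 1) := by
    rw [mul_comm 2 i, pow_mul]
    have h3 := Nat.sq_sub_sq (q ^ i) 1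
    rwa [one_pow] at h3
  rw [h2, hr.dvd_mul] at h
  rcases h with h | h
  · exact b_add hr hr2 hq hq3 hi h
  · exact b_sub hq3 hi h

omit hr2 hq in
theorem b_three_add (h : r ∣ q ^ 3 + 1) : r + 1 ≤ q ^ 2 := by
  obtain ⟨c, rfl⟩ := Nat.exists_eq_add_of_le' hq3
  have h1 : (c + 3) ^ 3 + 1 = (c + 4) * (c ^ 2 + 5 * c + 7) := by ring
  rw [h1, hr.dvd_mul] at h
  rcases h with h | h
  · have := Nat.le_of_dvd (by omega) h
    nlinarith
  · have := Nat.le_of_dvd (by positivity) h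
    nlinarith

omit hr hr2 hq in
theorem b_td4 (h : r ∣ q ^ 8 + q ^ 4 + 1) : r + 1 ≤ q ^ 9 := by
  have h2 := Nat.le_of_dvd (by positivity) h
  have h3 : q ^ 9 = q * q ^ 8 := by ring
  have h4 : q ^ 8 = q ^ 4 * q ^ 4 := by ring
  have h5 : 3 ^ 4 ≤ q ^ 4 := Nat.pow_le_pow_left hq3 4
  have h6 : q * q ^ 8 ≥ 3 * q ^ 8 := Nat.mul_le_mul_right _ hq3
  have h7 : q ^ 4 * q ^ 4 ≥ 3 ^ 4 * q ^ 4 := Nat.mul_le_mul_right _ h5
  omega

end

theorem le_mu {r p k : ℕ} {t : Typ} (hr : r.Prime) (hr2 : r ≠ 2) (hv : t.Valid p k) (hp2 : p ≠ 2)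
    (hq : p ^ k % 2 = 1) (hq3 : 3 ≤ p ^ k) (h : r ∣ t.P (p ^ k)) : r + 1 ≤ (p ^ k) ^ μ t := by
  generalize p ^ k = q at *
  have mono : ∀ {a b : ℕ}, r + 1 ≤ q ^ a → a ≤ b → r + 1 ≤ q ^ b := fun h1 h2 =>
    h1.trans (Nat.pow_le_pow_right (by omega) h2)
  have s : ∀ {i b : ℕ}, 1 ≤ i → i ≤ b → r ∣ q ^ i - 1 → r + 1 ≤ q ^ b := fun h1 h2 h3 =>
    mono (b_sub hq3 h1 h3) h2
  have a : ∀ {i b : ℕ}, 1 ≤ i → i ≤ b → r ∣ q ^ i + 1 → r + 1 ≤ q ^ b := fun h1 h2 h3 =>
    mono (b_add hr hr2 hq hq3 h1 h3) h2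
  have d : ∀ {i b : ℕ}, 1 ≤ i → i ≤ b → r ∣ q ^ (2 * i) - 1 → r + 1 ≤ q ^ b := fun h1 h2 h3 =>
    mono (b_two hr hr2 hq hq3 h1 h3) h2
  have s1 : ∀ {b : ℕ}, 1 ≤ b → r ∣ q - 1 → r + 1 ≤ q ^ b := fun h2 h3 =>
    s (i := 1) le_rfl h2 (by rwa [pow_one])
  cases t with
  | L m =>
    obtain ⟨i, h1, h2, h3⟩ := dvd_pA hr _ h
    have := hv.2.1
    exact s (by omega) (show i ≤ m by omega) h3
  | S m =>
    obtain ⟨i, h1, h2, h3⟩ := dvd_pC hr _ h
    exact d (by omega) (show i ≤ m by omega) h3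
  | U m =>
    obtain ⟨i, h1, h2, h3⟩ := dvd_pU hr _ h
    have h4 := hv.2.1
    show r + 1 ≤ q ^ (if m = 3 then 2 else m)
    split_ifs with hm
    · subst hm
      rcases (by omega : i = 2 ∨ i = 3) with rfl | rfl
      · rcases h3 with h3 | h3
        · exact s (by norm_num) le_rfl h3.2
        · omega
      · rcases h3 with h3 | h3
        · omega
        · exact b_three_add hr hq3 h3.2
    · rcases h3 with h3 | h3
      · exact s (by omega) (by omega) h3.2
      · exact a (by omega) (by omega) h3.2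
  | OO m =>
    obtain ⟨i, h1, h2, h3⟩ := dvd_pC hr _ h
    exact d (by omega) (show i ≤ m by omega) h3
  | OP m =>
    have hm := hv.2
    rw [Typ.P, hr.dvd_mul] at h
    rcases h with h | h
    · exact s (by omega) (show m ≤ m by omega) h
    · obtain ⟨i, h1, h2, h3⟩ := dvd_pC hr _ h
      exact d (by omega) (show i ≤ m by omega) h3
  | OM m =>
    have hm := hv.2
    rw [Typ.P, hr.dvd_mul] at h
    rcases h with h | h
    · exact a (by omega) (show m ≤ m by omega) h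
    · obtain ⟨i, h1, h2, h3⟩ := dvd_pC hr _ h
      exact d (by omega) (show i ≤ m by omega) h3
  | G2 =>
    rw [Typ.P, hr.dvd_mul] at h
    rcases h with h | h
    · exact s (by norm_num) (by norm_num [μ]) h
    · exact d (i := 3) (by norm_num) (by norm_num [μ]) h
  | F4 =>
    simp only [Typ.P, hr.dvd_mul] at h
    rcases h with ((h | h) | h) | h <;> exact s (by norm_num) (by norm_num [μ]) h
  | E6 =>
    simp only [Typ.P, hr.dvd_mul] at h
    rcases h with ((((h | h) | h) | h) | h) | h <;> exact s (by norm_num) (by norm_num [μ]) h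
  | E7 =>
    simp only [Typ.P, hr.dvd_mul] at h
    rcases h with (((((h | h) | h) | h) | h) | h) | h <;> exact s (by norm_num) (by norm_num [μ]) h
  | E8 =>
    simp only [Typ.P, hr.dvd_mul] at h
    rcases h with ((((((h | h) | h) | h) | h) | h) | h) | h <;> exact s (by norm_num) (by norm_num [μ]) h
  | TE6 =>
    simp only [Typ.P, hr.dvd_mul] at h
    rcases h with ((((h | h) | h) | h) | h) | h <;>
      first | exact s (by norm_num) (by norm_num [μ]) h | exact a (by norm_num) (by norm_num [μ]) h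
  | TD4 =>
    simp only [Typ.P, hr.dvd_mul] at h
    rcases h with (h | h) | h
    · exact s (by norm_num) (by norm_num [μ]) h
    · exact s (by norm_num) (by norm_num [μ]) h
    · exact b_td4 hq3 h
  | SZ => exact absurd hv.1 hp2
  | TF4 => exact absurd hv.1 hp2
  | RG =>
    simp only [Typ.P, hr.dvd_mul] at h
    rcases h with h | h
    · exact s1 (by norm_num [μ]) h
    · exact b_three_add hr hq3 h

theorem mu_lt {p k : ℕ} {t : Typ} (hv : t.Valid p k) (hp2 : p ≠ 2) (h2 : t ≠ .L 2) (h3 : t ≠ .L 3) :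
    6 * μ t < 5 * t.N := by
  cases t with
  | L m =>
    have hm := hv.2.1
    have h4 : 4 ≤ m := by
      rcases (by omega : m = 2 ∨ m = 3 ∨ 4 ≤ m) with rfl | rfl | h
      · exact absurd rfl h2
      · exact absurd rfl h3
      · exact h
    show 6 * m < 5 * (m * (m - 1) / 2)
    obtain ⟨c, rfl⟩ := Nat.exists_eq_add_of_le' h4
    have h5 : (c + 4) * (c + 4 - 1) / 2 * 2 = (c + 4) * (c + 4 - 1) :=
      Nat.div_mul_cancel (even_iff_two_dvd.1 (Nat.even_mul_pred_self _))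
    have h6 : (c + 4) * (c + 4 - 1) = c * c + 7 * c + 12 := by
      rw [show c + 4 - 1 = c + 3 by omega]; ring
    nlinarith
  | S m =>
    have hm := hv.2.1
    show 6 * m < 5 * m ^ 2
    nlinarith
  | U m =>
    have hm := hv.2.1
    show 6 * (if m = 3 then 2 else m) < 5 * (m * (m - 1) / 2)
    split_ifs with h
    · subst h; norm_num
    · obtain ⟨c, rfl⟩ := Nat.exists_eq_add_of_le' (show 4 ≤ m by omega)
      have h5 : (c + 4) * (c + 4 - 1) / 2 * 2 = (c + 4) * (c + 4 - 1) :=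
        Nat.div_mul_cancel (even_iff_two_dvd.1 (Nat.even_mul_pred_self _))
      have h6 : (c + 4) * (c + 4 - 1) = c * c + 7 * c + 12 := by
        rw [show c + 4 - 1 = c + 3 by omega]; ring
      nlinarith
  | OO m =>
    have hm := hv.2.1
    show 6 * m < 5 * m ^ 2
    nlinarith
  | OP m =>
    have hm := hv.2
    show 6 * m < 5 * (m * (m - 1))
    obtain ⟨c, rfl⟩ := Nat.exists_eq_add_of_le' hm
    rw [show c + 4 - 1 = c + 3 by omega]
    nlinarith
  | OM m =>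
    have hm := hv.2
    show 6 * m < 5 * (m * (m - 1))
    obtain ⟨c, rfl⟩ := Nat.exists_eq_add_of_le' hm
    rw [show c + 4 - 1 = c + 3 by omega]
    nlinarith
  | SZ => exact absurd hv.1 hp2
  | TF4 => exact absurd hv.1 hp2
  | _ => simp [μ, Typ.N]

theorem L3_bound {r q : ℕ} (hr : r.Prime) (_hr2 : r ≠ 2) (_hq : q % 2 = 1) (hq3 : 3 ≤ q)
    (h : r ∣ Typ.P (.L 3) q) : (r + 1) ^ 6 < (q ^ 3) ^ 5 := by
  have key : r + 1 ≤ q ^ 2 + q + 2 := by
    obtain ⟨i, h1, h2, h3⟩ := dvd_pA hr _ h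
    rcases (by omega : i = 2 ∨ i = 3) with rfl | rfl
    · have := b_sub hq3 (by norm_num) h3
      omega
    · have h4 : q ^ 3 - 1 = (q - 1) * (q ^ 2 + q + 1) := by
        obtain ⟨c, rfl⟩ := Nat.exists_eq_add_of_le' (show 1 ≤ q by omega)
        rw [Nat.add_sub_cancel]
        have : (c + 1) ^ 3 = c * ((c + 1) ^ 2 + (c + 1) + 1) + 1 := by ring
        rw [this, Nat.add_sub_cancel]
      rw [h4, hr.dvd_mul] at h3
      rcases h3 with h3 | h3
      · have := Nat.le_of_dvd (by omega) h3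
        omega
      · have := Nat.le_of_dvd (by positivity) h3
        omega
  have h5 : (q ^ 2 + q + 2) ^ 2 < q ^ 5 := by
    obtain ⟨c, rfl⟩ := Nat.exists_eq_add_of_le' hq3
    have h6 : (c + 3) ^ 5 = ((c + 3) ^ 2 + (c + 3) + 2) ^ 2 +
      (c ^ 5 + 14 * c ^ 4 + 76 * c ^ 3 + 193 * c ^ 2 + 209 * c + 47) := by ring
    omega
  calc (r + 1) ^ 6 ≤ (q ^ 2 + q + 2) ^ 6 := Nat.pow_le_pow_left key 6
    _ = ((q ^ 2 + q + 2) ^ 2) ^ 3 := by ring
    _ < (q ^ 5) ^ 3 := Nat.pow_lt_pow_left h5 (by norm_num)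
    _ = (q ^ 3) ^ 5 := by ring

theorem big_bound {r p k : ℕ} {t : Typ} (hr : r.Prime) (hr2 : r ≠ 2) (hv : t.Valid p k) (hp2 : p ≠ 2)
    (hq : p ^ k % 2 = 1) (hq3 : 3 ≤ p ^ k) (h2 : t ≠ .L 2) (h : r ∣ t.P (p ^ k)) :
    (r + 1) ^ 6 < ((p ^ k) ^ t.N) ^ 5 := by
  by_cases h3 : t = .L 3
  · subst h3
    exact L3_bound hr hr2 hq hq3 h
  · calc (r + 1) ^ 6 ≤ ((p ^ k) ^ μ t) ^ 6 := Nat.pow_le_pow_left (le_mu hr hr2 hv hp2 hq hq3 h) 6
      _ = (p ^ k) ^ (6 * μ t) := by rw [← pow_mul]; congr 1; ring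
      _ < (p ^ k) ^ (5 * t.N) := Nat.pow_lt_pow_right (by omega) (mu_lt hv hp2 h2 h3)
      _ = ((p ^ k) ^ t.N) ^ 5 := by rw [← pow_mul (p ^ k)]; congr 1; ring

/-- `N t = 1` only for `L_2`. -/
theorem eq_L2 {p k : ℕ} {t : Typ} (hv : t.Valid p k) (h : t.N = 1) : t = .L 2 := by
  cases t with
  | L m =>
    have hm := hv.2.1
    rcases (by omega : m = 2 ∨ 3 ≤ m) with rfl | h3
    · rfl
    · exfalso
      have h4 : m * (m - 1) / 2 = 1 := h
      have h5 : 3 * 2 ≤ m * (m - 1) := Nat.mul_le_mul h3 (by omega)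
      omega
  | S m =>
    exfalso
    have hm := hv.2.1
    have h4 : m ^ 2 = 1 := h
    nlinarith
  | U m =>
    exfalso
    have hm := hv.2.1
    have h4 : m * (m - 1) / 2 = 1 := h
    have h5 : 3 * 2 ≤ m * (m - 1) := Nat.mul_le_mul hm (by omega)
    omega
  | OO m =>
    exfalso
    have hm := hv.2.1
    have h4 : m ^ 2 = 1 := h
    nlinarith
  | OP m =>
    exfalso
    have hm := hv.2
    have h4 : m * (m - 1) = 1 := h
    have h5 : 4 * 3 ≤ m * (m - 1) := Nat.mul_le_mul hm (by omega)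
    omega
  | OM m =>
    exfalso
    have hm := hv.2
    have h4 : m * (m - 1) = 1 := h
    have h5 : 4 * 3 ≤ m * (m - 1) := Nat.mul_le_mul hm (by omega)
    omega
  | _ => exact absurd h (by decide)

theorem mersenne_le {n : ℕ} (h : 2 ^ n - 1 ≤ 2 * n + 1) : n ≤ 3 := by
  by_contra h4
  have h5 : ∀ m, 2 * (m + 4) + 1 < 2 ^ (m + 4) - 1 := by
    intro m
    induction m with
    | zero => norm_num
    | succ m ih =>
      have : 2 ^ (m + 1 + 4) = 2 * 2 ^ (m + 4) := by ring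
      omega
  obtain ⟨m, rfl⟩ := Nat.exists_eq_add_of_le' (show 4 ≤ n by omega)
  have := h5 m
  omega

theorem n_lt {n : ℕ} (hn : 3 ≤ n) : n < 2 ^ n - 1 := by
  obtain ⟨m, rfl⟩ := Nat.exists_eq_add_of_le' hn
  induction m with
  | zero => norm_num
  | succ m ih =>
    have : 2 ^ (m + 1 + 3) = 2 * 2 ^ (m + 3) := by ring
    have := ih (by omega)
    omega

/-- **Odd characteristic.** -/
theorem char_odd {n p k c : ℕ} {t : Typ} {X : Type*} (hp : p.Prime) (hp2 : p ≠ 2) (hv : t.Valid p k)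
    (h : HasOrd t (p ^ k) X) (hn : n.Prime)
    (hn2 : n ≠ 2) (hr : (2 ^ n - 1).Prime) (hc : Nat.card X = (2 ^ n - 1) * c) (hcn : c ≡ n [MOD (2 ^ n - 1)])
    (hG : Nat.card X ∣ G n) : Nat.card X = G n := by
  have hn3 : 3 ≤ n := by
    have := hn.two_le
    omega
  have hodd : n % 2 = 1 := by
    rcases hn.eq_two_or_odd with h | h
    · exact absurd h hn2
    · exact h
  have hk := one_le_k hv
  have hr2 : 2 ^ n - 1 ≠ 2 := by
    have h5 : 2 ∣ 2 ^ n := dvd_pow_self 2 (by omega)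
    have h6 := Nat.one_le_two_pow (n := n)
    omega
  have hp3 : 3 ≤ p := by have := hp.two_le; omega
  have hq3 : 3 ≤ p ^ k := hp3.trans (Nat.le_self_pow (by omega) p)
  have hq : p ^ k % 2 = 1 := Nat.odd_iff.1 (hp.odd_of_ne_two hp2).pow
  have hpow : p ^ (k * t.N) ∣ G n := (dvd_card hp hv h).trans hG
  have hb := pow_le_of_dvd_G hp hp2 (by omega) hpow
  have hnr := n_lt hn3
  set r := 2 ^ n - 1 with hrdef
  have hr1 : 2 ^ (6 * n) = (r + 1) ^ 6 := by
    have : r + 1 = 2 ^ n := by have := Nat.one_le_two_pow (n := n); omega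
    rw [this, ← pow_mul, mul_comm]
  rw [hr1, pow_mul] at hb
  have hr7 : 7 ≤ r := by
    have : 2 ^ 3 ≤ 2 ^ n := Nat.pow_le_pow_right (by norm_num) hn3
    omega
  have hd : r ∣ Nat.card X := ⟨c, hc⟩
  -- the type is `L 2`
  have key : t = .L 2 := by
    by_contra hne
    by_cases hrp : r = p
    · have hN : t.N ≠ 1 := fun h1 => hne (eq_L2 hv h1)
      have hN0 := N_pos hv
      have hkN : 1 * 2 ≤ k * t.N := Nat.mul_le_mul hk (by omega)
      have hb2 : r ^ (k * t.N * 5) ≤ (r + 1) ^ 6 := by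
        have h0 := hb
        rw [← hrp, ← pow_mul, ← pow_mul] at h0
        rwa [mul_assoc]
      have h1 : r ^ (1 * 2 * 5) ≤ r ^ (k * t.N * 5) :=
        Nat.pow_le_pow_right (by omega) (Nat.mul_le_mul_right _ hkN)
      have h2 : (r + 1) ^ 6 < r ^ 10 := by
        calc (r + 1) ^ 6 ≤ (2 * r) ^ 6 := Nat.pow_le_pow_left (by omega) 6
          _ = 64 * r ^ 6 := by ring
          _ < 7 ^ 4 * r ^ 6 := Nat.mul_lt_mul_of_pos_right (by norm_num) (pow_pos (by omega) 6)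
          _ ≤ r ^ 4 * r ^ 6 := Nat.mul_le_mul_right _ (Nat.pow_le_pow_left hr7 4)
          _ = r ^ 10 := by ring
      exact absurd ((h2.trans_le h1).trans_le hb2) (lt_irrefl _)
    · have h1 := dvd_P_of_card h hp hr hrp hd
      have h2 := big_bound hr hr2 hv hp2 hq hq3 hne h1
      omega
  subst key
  have hord : Nat.gcd 2 (p ^ k - 1) * Nat.card X = (p ^ k) ^ (2 * (2 - 1) / 2) * pA (p ^ k) (2 - 1) := h
  have hgcd : Nat.gcd 2 (p ^ k - 1) = 2 := Nat.gcd_eq_left (by omega)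
  have hpA : pA (p ^ k) (2 - 1) = (p ^ k) ^ 2 - 1 := by
    show 1 * ((p ^ k) ^ (0 + 2) - 1) = _
    rw [one_mul]
  rw [hgcd, hpA] at hord
  have hord' : 2 * Nat.card X = p ^ k * ((p ^ k) ^ 2 - 1) := by
    rw [hord]
    norm_num
  have hb' : (p ^ k) ^ 5 ≤ (r + 1) ^ 6 := by
    have e1 : Typ.N (.L 2) = 1 := rfl
    rw [e1, pow_one] at hb
    exact hb
  clear hord hgcd hpA hb hpow h
  by_cases hrp : r = p
  · -- `r = p`
    have hk1 : k = 1 := by
      by_contra hk1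
      have h1 : r ^ 2 ≤ p ^ k := by
        rw [← hrp]
        exact Nat.pow_le_pow_right (by omega) (by omega)
      have h2 : (r ^ 2) ^ 5 ≤ (r + 1) ^ 6 := (Nat.pow_le_pow_left h1 5).trans hb'
      have h3 : (r + 1) ^ 6 < (r ^ 2) ^ 5 := by
        calc (r + 1) ^ 6 ≤ (2 * r) ^ 6 := Nat.pow_le_pow_left (by omega) 6
          _ = 64 * r ^ 6 := by ring
          _ < 7 ^ 4 * r ^ 6 := Nat.mul_lt_mul_of_pos_right (by norm_num) (pow_pos (by omega) 6)
          _ ≤ r ^ 4 * r ^ 6 := Nat.mul_le_mul_right _ (Nat.pow_le_pow_left hr7 4)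
          _ = (r ^ 2) ^ 5 := by ring
      omega
    subst hk1
    rw [pow_one, ← hrp, hc] at hord'
    have h1 : 2 * c = r ^ 2 - 1 := by
      have : r * (2 * c) = r * (r ^ 2 - 1) := by rw [← hord']; ring
      exact Nat.eq_of_mul_eq_mul_left (by omega) this
    have h2 : 2 * c + 1 ≡ 0 [MOD r] := by
      have h3 : 2 * c + 1 = r * r := by
        have : 1 ≤ r ^ 2 := Nat.one_le_pow _ _ (by omega)
        rw [h1, Nat.sub_add_cancel this]; ring
      rw [h3]
      exact (Nat.modEq_zero_iff_dvd.2 (dvd_mul_right r r))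
    have h3 : 2 * n + 1 ≡ 0 [MOD r] := (((hcn.symm).mul_left 2).add_right 1).trans h2
    have h4 := Nat.le_of_dvd (by omega) (Nat.modEq_zero_iff_dvd.1 h3)
    have h5 := mersenne_le (hrdef ▸ h4)
    obtain rfl : n = 3 := by omega
    have h6 : r = 7 := by rw [hrdef]; norm_num
    rw [h6] at h1
    rw [hc, G_three, h6]
    omega
  · exfalso
    have hdP : r ∣ p ^ k * ((p ^ k) ^ 2 - 1) := by
      rw [← hord']
      exact dvd_mul_of_dvd_right hd 2
    have hrq : ¬ r ∣ p ^ k := fun h1 => hrp ((Nat.prime_dvd_prime_iff_eq hr hp).1 (hr.dvd_of_dvd_pow h1))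
    have h1 : (p ^ k) ^ 2 - 1 = (p ^ k - 1) * (p ^ k + 1) := by
      have h3 := Nat.sq_sub_sq (p ^ k) 1
      rw [one_pow] at h3
      rw [h3, mul_comm]
    rw [h1] at hord' hdP
    have h2 := ((hr.dvd_mul).1 ((hr.dvd_mul.1 hdP).resolve_left hrq))
    generalize p ^ k = q at *
    have hodd_r : r % 2 = 1 := by
      rcases hr.eq_two_or_odd with h | h
      · exact absurd h hr2
      · exact h
    have hcop2 : Nat.Coprime r 2 := (Nat.coprime_primes hr Nat.prime_two).2 hr2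
    have final : ∀ m : ℕ, m % 2 = 0 → 2 * c ≡ 2 * m [MOD r] → m < r → False := by
      intro m hm h3 h4
      have h5 : c ≡ m [MOD r] := Nat.ModEq.cancel_left_of_coprime hcop2 h3
      have h6 : n ≡ m [MOD r] := hcn.symm.trans h5
      have h7 : n = m := Nat.ModEq.eq_of_lt_of_lt h6 hnr h4
      omega
    rcases h2 with ⟨m, hm⟩ | ⟨m, hm⟩
    · -- `q = r m + 1`
      have hqm : q = r * m + 1 := by omega
      have hm2 : m % 2 = 0 := by
        rcases Nat.mod_two_eq_zero_or_one m with h | h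
        · exact h
        · exfalso
          have : (r * m) % 2 = 1 := by rw [Nat.mul_mod, hodd_r, h]
          omega
      refine final m hm2 ?_ ?_
      · have h3 : r * (2 * c) = r * (q * ((q + 1) * m)) := by
          have : r * (2 * c) = 2 * (r * c) := by ring
          rw [this, ← hc, hord', hm]; ring
        have h4 : 2 * c = q * ((q + 1) * m) := Nat.eq_of_mul_eq_mul_left (by omega) h3
        rw [h4]
        have h5 : q ≡ 1 [MOD r] := by
          rw [hqm]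
          have : r * m + 1 ≡ 0 + 1 [MOD r] := (Nat.modEq_zero_iff_dvd.2 (dvd_mul_right r m)).add_right 1
          simpa using this
        have h6 : q * ((q + 1) * m) ≡ 1 * ((1 + 1) * m) [MOD r] := h5.mul ((h5.add_right 1).mul_right m)
        simpa using h6
      · by_contra h3
        push Not at h3
        have h4 : r * r ≤ q := by rw [hqm]; exact (Nat.mul_le_mul_left r h3).trans (Nat.le_succ _)
        have h5 : (r * r) ^ 5 ≤ (r + 1) ^ 6 := (Nat.pow_le_pow_left h4 5).trans hb'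
        have h6 : (r + 1) ^ 6 < (r * r) ^ 5 := by
          calc (r + 1) ^ 6 ≤ (2 * r) ^ 6 := Nat.pow_le_pow_left (by omega) 6
            _ = 64 * r ^ 6 := by ring
            _ < 7 ^ 4 * r ^ 6 := Nat.mul_lt_mul_of_pos_right (by norm_num) (pow_pos (by omega) 6)
            _ ≤ r ^ 4 * r ^ 6 := Nat.mul_le_mul_right _ (Nat.pow_le_pow_left hr7 4)
            _ = (r * r) ^ 5 := by ring
        omega
    · -- `q = r m - 1`
      have hm0 : m ≠ 0 := by rintro rfl; omega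
      have hm2 : m % 2 = 0 := by
        rcases Nat.mod_two_eq_zero_or_one m with h | h
        · exact h
        · exfalso
          have : (r * m) % 2 = 1 := by rw [Nat.mul_mod, hodd_r, h]
          omega
      refine final m hm2 ?_ ?_
      · have h3 : r * (2 * c) = r * (q * ((q - 1) * m)) := by
          have : r * (2 * c) = 2 * (r * c) := by ring
          rw [this, ← hc, hord', hm]; ring
        have h4 : 2 * c = q * ((q - 1) * m) := Nat.eq_of_mul_eq_mul_left (by omega) h3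
        rw [h4, ← Int.natCast_modEq_iff]
        have h5 : (q : ℤ) ≡ -1 [ZMOD r] := by
          have : (r : ℤ) ∣ (q : ℤ) - (-1) := ⟨m, by rw [sub_neg_eq_add]; exact_mod_cast hm⟩
          exact (Int.modEq_iff_dvd.2 this).symm
        have hq1 : ((q - 1 : ℕ) : ℤ) = (q : ℤ) - 1 := by
          rw [Nat.cast_sub (by omega)]; rfl
        push_cast
        rw [hq1]
        have h6 : (q : ℤ) * (((q : ℤ) - 1) * m) ≡ (-1) * (((-1 : ℤ) - 1) * m) [ZMOD r] :=
          h5.mul ((h5.sub_right 1).mul_right _)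
        have h7 : (-1 : ℤ) * (((-1 : ℤ) - 1) * m) = 2 * m := by ring
        rw [h7] at h6
        exact h6
      · by_contra h3
        push Not at h3
        have h4 : r * r ≤ q + 1 := by rw [hm]; exact Nat.mul_le_mul_left r h3
        have h4' : (r - 1) * (r + 1) ≤ q := by
          have : (r - 1) * (r + 1) = r * r - 1 := by
            obtain ⟨d, hd⟩ := Nat.exists_eq_add_of_le' (show 1 ≤ r by omega)
            rw [hd, Nat.add_sub_cancel]
            have : (d + 1) * (d + 1) = d * (d + 1 + 1) + 1 := by ring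
            omega
          omega
        have h5 : ((r - 1) * (r + 1)) ^ 5 ≤ (r + 1) ^ 6 := (Nat.pow_le_pow_left h4' 5).trans hb'
        have h6 : (r + 1) ^ 6 < ((r - 1) * (r + 1)) ^ 5 := by
          rw [mul_pow]
          have h7 : r + 1 < (r - 1) ^ 5 := by
            calc r + 1 < 6 ^ 4 * (r - 1) := by omega
              _ ≤ (r - 1) ^ 4 * (r - 1) := Nat.mul_le_mul_right _ (Nat.pow_le_pow_left (by omega) 4)
              _ = (r - 1) ^ 5 := by ring
          calc (r + 1) ^ 6 = (r + 1) * (r + 1) ^ 5 := by ring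
            _ < (r - 1) ^ 5 * (r + 1) ^ 5 := Nat.mul_lt_mul_of_pos_right h7 (pow_pos (by omega) 5)
        omega

end Cfsg.Agent.H535.Mers
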