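import Cfsg.Agent.NotCT.Fam
import Cfsg.Agent.NotCT.Orders
import Cfsg.Agent.OddHalf.Known
import Cfsg.Agent.H535.MersOdd

/-!
Known simple groups of order dividing `|GL(n,2)|` and divisible by the prime `2 ^ n - 1` with the Sylow count
of the self-centralising Sylow subgroup with normaliser quotient of order `n`.
-/

set_option autoImplicit false

namespace Cfsg.Agent.H535.Mers

open Cfsg Cfsg.Agent.NotCT

theorem G_le {n : ℕ} (hn : 1 ≤ n) : G n ≤ 2 ^ (n ^ 2 - 1) := by
  have h1 : pA 2 (n - 1) ≤ 2 ^ sA (n - 1) := pA_le 2 (n - 1)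
  have h2 := two_sA (n - 1)
  obtain ⟨m, rfl⟩ := Nat.exists_eq_add_of_le' hn
  rw [Nat.add_sub_cancel] at h1 h2
  have h3 : (m + 1) * (m + 1 - 1) / 2 * 2 = (m + 1) * (m + 1 - 1) :=
    Nat.div_mul_cancel (even_iff_two_dvd.1 (Nat.even_mul_pred_self _))
  rw [Nat.add_sub_cancel] at h3
  rw [G, Nat.add_sub_cancel]
  calc 2 ^ ((m + 1) * m / 2) * pA 2 m ≤ 2 ^ ((m + 1) * m / 2) * 2 ^ sA m := Nat.mul_le_mul_left _ h1
    _ = 2 ^ ((m + 1) * m / 2 + sA m) := by rw [pow_add]
    _ ≤ 2 ^ ((m + 1) ^ 2 - 1) := by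
        refine Nat.pow_le_pow_right (by norm_num) ?_
        have h4 : (m + 1) ^ 2 = m * m + 2 * m + 1 := by ring
        have h5 : (m + 1) * m = m * m + m := by ring
        have h6 : m * (m + 3) = m * m + 3 * m := by ring
        rw [h4]
        rw [h5] at h3 ⊢
        omega

theorem exp_lt {n : ℕ} (hn : 4 ≤ n) : n ^ 2 < (n - 1) * 2 ^ (n - 1) := by
  obtain ⟨m, rfl⟩ := Nat.exists_eq_add_of_le' hn
  have h1 : ∀ m : ℕ, 2 * (m + 4) ≤ 2 ^ (m + 3) := by
    intro m
    induction m with
    | zero => norm_num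
    | succ m ih =>
      have : 2 ^ (m + 1 + 3) = 2 * 2 ^ (m + 3) := by ring
      omega
  have h2 := h1 m
  rw [show m + 4 - 1 = m + 3 by omega]
  calc (m + 4) ^ 2 < (m + 3) * (2 * (m + 4)) := by nlinarith
    _ ≤ (m + 3) * 2 ^ (m + 3) := Nat.mul_le_mul_left _ h2

theorem factorial_big {n : ℕ} (hn : 3 ≤ n) : 2 ^ (n ^ 2) < (2 ^ n - 1).factorial := by
  rcases (by omega : n = 3 ∨ 4 ≤ n) with rfl | h4
  · decide +kernel
  · have h1 := Nat.factorial_mul_pow_le_factorial (m := 2 ^ (n - 1) - 1) (n := 2 ^ (n - 1))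
    have h2 : 2 ^ (n - 1) - 1 + 1 = 2 ^ (n - 1) := Nat.sub_add_cancel Nat.one_le_two_pow
    have h3 : 2 ^ (n - 1) - 1 + 2 ^ (n - 1) = 2 ^ n - 1 := by
      have : 2 ^ n = 2 * 2 ^ (n - 1) := by
        rw [← pow_succ']
        congr 1
        omega
      have := Nat.one_le_two_pow (n := n - 1)
      omega
    rw [h2, h3] at h1
    calc 2 ^ (n ^ 2) < 2 ^ ((n - 1) * 2 ^ (n - 1)) := Nat.pow_lt_pow_right (by norm_num) (exp_lt h4)
      _ = (2 ^ (n - 1)) ^ 2 ^ (n - 1) := by rw [← pow_mul]
      _ ≤ (2 ^ (n - 1) - 1).factorial * (2 ^ (n - 1)) ^ 2 ^ (n - 1) :=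
          Nat.le_mul_of_pos_left _ (Nat.factorial_pos _)
      _ ≤ _ := h1

theorem no_alt {n m : ℕ} {X : Type*} (hn : 3 ≤ n) (hr : (2 ^ n - 1).Prime) (hX : 2 * Nat.card X = m.factorial)
    (hd : 2 ^ n - 1 ∣ Nat.card X) (hG : Nat.card X ∣ G n) : False := by
  have h1 : 2 ^ n - 1 ∣ m.factorial := hX ▸ dvd_mul_of_dvd_right hd 2
  have h2 : 2 ^ n - 1 ≤ m := hr.dvd_factorial.1 h1
  have h3 : (2 ^ n - 1).factorial ≤ m.factorial := Nat.factorial_le h2
  have hG0 : 0 < G n := Nat.mul_pos (by positivity) (pA_two_pos _)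
  have h4 := Nat.le_of_dvd hG0 hG
  have h5 := G_le (show 1 ≤ n by omega)
  have h6 := factorial_big hn
  have h7 : 2 ^ (n ^ 2) = 2 * 2 ^ (n ^ 2 - 1) := by
    rw [← pow_succ']
    congr 1
    have : 1 ≤ n ^ 2 := Nat.one_le_pow _ _ (by omega)
    omega
  omega

theorem no_num {n N0 : ℕ} {X : Type*} (hn : n.Prime) (hn2 : n ≠ 2) (hr : (2 ^ n - 1).Prime)
    (hd : 2 ^ n - 1 ∣ Nat.card X) (hG : Nat.card X ∣ G n) (hX : Nat.card X = N0)
    (h71 : N0 ∣ (Nat.factorial 71) ^ 50) (h3 : ¬ N0 ∣ 168) (h5 : ¬ N0 ∣ 9999360) : False := by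
  rw [hX] at hd hG
  have h1 : 2 ^ n - 1 ≤ 71 := hr.dvd_factorial.1 (hr.dvd_of_dvd_pow (hd.trans h71))
  have h2 : n ≤ 6 := by
    by_contra h
    have : 2 ^ 7 ≤ 2 ^ n := Nat.pow_le_pow_right (by norm_num) (by omega)
    omega
  have h4 : n ≠ 4 := by rintro rfl; exact absurd hn (by norm_num)
  have h6 : n ≠ 6 := by rintro rfl; exact absurd hn (by norm_num)
  have h0 := hn.two_le
  rcases (by omega : n = 3 ∨ n = 5) with rfl | rfl
  · rw [G_three] at hG
    exact h3 hG
  · rw [G_five] at hG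
    exact h5 hG

theorem no_spor {n : ℕ} {X : Type*} [Group X] (hn : n.Prime) (hn2 : n ≠ 2) (hr : (2 ^ n - 1).Prime)
    (hd : 2 ^ n - 1 ∣ Nat.card X) (hG : Nat.card X ∣ G n) : ¬ IsSporadicGroup X := by
  rintro (h' | h' | h' | h' | h' | h' | h' | h' | h' | h' | h' | h' | h' | h' | h' | h' | h' | h' | h' | h' | h' | h' | h' | h' | h' | h')
  · exact no_num hn hn2 hr hd hG (Orders.m11 h') (by decide +kernel) (by decide +kernel) (by decide +kernel)
  · exact no_num hn hn2 hr hd hG (Orders.m12 h') (by decide +kernel) (by decide +kernel) (by decide +kernel)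
  · exact no_num hn hn2 hr hd hG (Orders.m22 h') (by decide +kernel) (by decide +kernel) (by decide +kernel)
  · exact no_num hn hn2 hr hd hG (Orders.m23 h') (by decide +kernel) (by decide +kernel) (by decide +kernel)
  · exact no_num hn hn2 hr hd hG (Orders.m24 h') (by decide +kernel) (by decide +kernel) (by decide +kernel)
  · exact no_num hn hn2 hr hd hG (Orders.j1 h') (by decide +kernel) (by decide +kernel) (by decide +kernel)
  · exact no_num hn hn2 hr hd hG (Orders.j2 h') (by decide +kernel) (by decide +kernel) (by decide +kernel)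
  · exact no_num hn hn2 hr hd hG (Orders.j3 h') (by decide +kernel) (by decide +kernel) (by decide +kernel)
  · exact no_num hn hn2 hr hd hG (Orders.j4 h') (by decide +kernel) (by decide +kernel) (by decide +kernel)
  · exact no_num hn hn2 hr hd hG (Orders.co1 h') (by decide +kernel) (by decide +kernel) (by decide +kernel)
  · exact no_num hn hn2 hr hd hG (Orders.co2 h') (by decide +kernel) (by decide +kernel) (by decide +kernel)
  · exact no_num hn hn2 hr hd hG (Orders.co3 h') (by decide +kernel) (by decide +kernel) (by decide +kernel)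
  · exact no_num hn hn2 hr hd hG (Orders.mcl h') (by decide +kernel) (by decide +kernel) (by decide +kernel)
  · exact no_num hn hn2 hr hd hG (Orders.hs h') (by decide +kernel) (by decide +kernel) (by decide +kernel)
  · exact no_num hn hn2 hr hd hG (Orders.suz h') (by decide +kernel) (by decide +kernel) (by decide +kernel)
  · exact no_num hn hn2 hr hd hG (Orders.he h') (by decide +kernel) (by decide +kernel) (by decide +kernel)
  · exact no_num hn hn2 hr hd hG (Orders.ru h') (by decide +kernel) (by decide +kernel) (by decide +kernel)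
  · exact no_num hn hn2 hr hd hG (Orders.on h') (by decide +kernel) (by decide +kernel) (by decide +kernel)
  · exact no_num hn hn2 hr hd hG (Orders.ly h') (by decide +kernel) (by decide +kernel) (by decide +kernel)
  · exact no_num hn hn2 hr hd hG (Orders.fi22 h') (by decide +kernel) (by decide +kernel) (by decide +kernel)
  · exact no_num hn hn2 hr hd hG (Orders.fi23 h') (by decide +kernel) (by decide +kernel) (by decide +kernel)
  · exact no_num hn hn2 hr hd hG (Orders.fi24 h') (by decide +kernel) (by decide +kernel) (by decide +kernel)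
  · exact no_num hn hn2 hr hd hG (Orders.hn h') (by decide +kernel) (by decide +kernel) (by decide +kernel)
  · exact no_num hn hn2 hr hd hG (Orders.th h') (by decide +kernel) (by decide +kernel) (by decide +kernel)
  · exact no_num hn hn2 hr hd hG (Orders.b h') (by decide +kernel) (by decide +kernel) (by decide +kernel)
  · exact no_num hn hn2 hr hd hG (Orders.m h') (by decide +kernel) (by decide +kernel) (by decide +kernel)

/-- **The order theorem.** -/
theorem card_eq_G {n c : ℕ} {X : Type*} [Group X] [Finite X] (hna : ¬ IsMulCommutative X) (hX : IsKnownSimple' X)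
    (hn : n.Prime) (hn2 : n ≠ 2) (hr : (2 ^ n - 1).Prime) (hc : Nat.card X = (2 ^ n - 1) * c)
    (hcn : c ≡ n [MOD (2 ^ n - 1)]) (hG : Nat.card X ∣ G n) : Nat.card X = G n := by
  have hn3 : 3 ≤ n := by
    have := hn.two_le
    omega
  have hd : 2 ^ n - 1 ∣ Nat.card X := ⟨c, hc⟩
  rcases OddHalf.Known.classify' hna hX with h | h | h | h
  · exfalso
    obtain ⟨m, hm, ⟨e⟩⟩ := h
    refine no_alt (m := m) hn3 hr ?_ hd hG
    rw [Nat.card_congr e.toEquiv, Nat.card_eq_fintype_card]
    have : Nontrivial (Fin m) := Fin.nontrivial_iff_two_le.2 (by omega)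
    rw [two_mul_card_alternatingGroup, Fintype.card_perm, Fintype.card_fin]
  · obtain ⟨p, hp, h⟩ := h
    obtain ⟨t, k, hv, h⟩ := exists_typ hp h
    have ho := card_eq hp hv h
    by_cases hp2 : p = 2
    · subst hp2
      exact char_two hv ho hn hn2 hr hd hG
    · exact char_odd hp hp2 hv ho hn hn2 hr hc hcn hG
  · exact (no_num hn hn2 hr hd hG (Orders.tits h) (by decide +kernel) (by decide +kernel) (by decide +kernel)).elim
  · exact (no_spor hn hn2 hr hd hG h).elim

end Cfsg.Agent.H535.Mers
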