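import Cfsg.Agent.H535.MersSinger
import Cfsg.Agent.S1013

/-!
Transitive linear groups on `2 ^ n` points, `2 ^ n - 1` prime: solvable or simple.
-/

set_option autoImplicit false

namespace Cfsg.Agent.H535.Mers

open MulAction

theorem card_sylow_eq {X : Type*} [Group X] [Finite X] {p : ℕ} [Fact p.Prime] (P : Sylow p X) :
    (Subgroup.normalizer ((P : Subgroup X) : Set X)).index = Nat.card (Sylow p X) :=
  (Sylow.card_eq_index_normalizer P).symm

/-- transport of `S1013` -/
theorem simple_of_prime_degree {X α : Type*} [Group X] [Finite X] [Fintype α] [MulAction X α] [FaithfulSMul X α]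
    [IsPretransitive X α] {p ℓ : ℕ} [Fact p.Prime] (hα : Fintype.card α = p)
    (hS : ∀ P : Sylow p X, Nat.card P = p) (h1 : 1 < Nat.card (Sylow p X)) (hℓ : ℓ.Prime)
    (hN : ∀ P : Sylow p X, Nat.card (Subgroup.normalizer ((P : Subgroup X) : Set X)) = p * ℓ) : IsSimpleGroup X := by
  classical
  set φ : X →* Equiv.Perm α := toPermHom X α with hφ
  have hinj : Function.Injective φ := toPerm_injective
  set G := φ.range with hG
  let e : X ≃* G := MonoidHom.ofInjective hinj
  have htr : IsPretransitive G α := by
    refine ⟨fun a b => ?_⟩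
    obtain ⟨x, hx⟩ := exists_smul_eq X a b
    exact ⟨⟨φ x, x, rfl⟩, hx⟩
  obtain ⟨P⟩ : Nonempty (Sylow p G) := inferInstance
  have hSyl : Nat.card (Sylow p X) = Nat.card (Sylow p G) := by
    apply le_antisymm
    · exact Nat.card_le_card_of_surjective _ (Sylow.mapSurjective_surjective (f := e.symm.toMonoidHom) e.symm.surjective p)
    · exact Nat.card_le_card_of_surjective _ (Sylow.mapSurjective_surjective (f := e.toMonoidHom) e.surjective p)
  have hcard : Nat.card X = Nat.card G := Nat.card_congr e.toEquiv
  obtain ⟨P₀⟩ : Nonempty (Sylow p X) := inferInstance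
  have hP : Nat.card P = p := by
    rw [Sylow.card_eq_multiplicity P, ← hcard, ← Sylow.card_eq_multiplicity P₀, hS P₀]
  have h2 := (Subgroup.normalizer ((P : Subgroup G) : Set G)).card_mul_index
  rw [card_sylow_eq P, ← hSyl, ← hcard] at h2
  have h3 := (Subgroup.normalizer ((P₀ : Subgroup X) : Set X)).card_mul_index
  rw [card_sylow_eq P₀, hN P₀] at h3
  have h4 : Nat.card (Subgroup.normalizer ((P : Subgroup G) : Set G)) = p * ℓ :=
    Nat.eq_of_mul_eq_mul_right (by omega) (h2.trans h3.symm)
  have h5 := ((P : Subgroup G).subgroupOf (Subgroup.normalizer ((P : Subgroup G) : Set G))).card_mul_index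
  rw [Nat.card_congr (Subgroup.subgroupOfEquivOfLe Subgroup.le_normalizer).toEquiv, h4] at h5
  have h6 : ((P : Subgroup G).subgroupOf (Subgroup.normalizer ((P : Subgroup G) : Set G))).index = ℓ := by
    have h7 : Nat.card (P : Subgroup G) = p := hP
    rw [h7] at h5
    exact Nat.eq_of_mul_eq_mul_left (Fact.out : p.Prime).pos h5
  have := Cfsg.Agent.S1013.result hα G P (by rw [← hSyl]; exact h1) (by rw [h6]; exact hℓ)
  exact e.isSimpleGroup

/-- **The trichotomy.** -/
theorem trichotomy {V X : Type*} [AddCommGroup V] [Finite V] [Group X] [Finite X] [DistribMulAction X V]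
    [FaithfulSMul X V] {n : ℕ} (hn : n.Prime) (hr : (2 ^ n - 1).Prime) (hV : Nat.card V = 2 ^ n)
    (h2 : ∀ x : V, x + x = 0) (htr : ∀ v w : V, v ≠ 0 → w ≠ 0 → ∃ x : X, x • v = w) :
    Nat.card X = 2 ^ n - 1 ∨
    (∃ R : Subgroup X, R.Normal ∧ Nat.card R = 2 ^ n - 1 ∧ Nat.card X = n * (2 ^ n - 1)) ∨
    (IsSimpleGroup X ∧ ¬ IsMulCommutative X ∧ ∃ c, Nat.card X = (2 ^ n - 1) * c ∧ c ≡ n [MOD (2 ^ n - 1)] ∧
      n ∣ c) := by
  classical
  set r := 2 ^ n - 1 with hrdef
  have hfr : Fact r.Prime := ⟨hr⟩
  have hV' : Nat.card V = r + 1 := by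
    have := Nat.one_le_two_pow (n := n)
    omega
  have hntV : Nontrivial V := Finite.one_lt_card_iff_nontrivial.1 (by have := hr.two_le; omega)
  obtain ⟨e0, h0⟩ := exists_ne (0 : V)
  have horb : ∀ v : V, v ≠ 0 → (stabilizer X v).index = r := by
    intro v hv
    rw [index_stabilizer]
    have h5 : orbit X v = ({0} : Set V)ᶜ := by
      ext w
      constructor
      · rintro ⟨x, rfl⟩ hx
        have hx' : x • v = 0 := hx
        exact hv ((smul_eq_zero_iff_eq x).1 hx')
      · intro hw
        obtain ⟨k, hk⟩ := htr v w hv hw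
        exact ⟨k, hk⟩
    rw [h5, Set.ncard_compl, hV', Set.ncard_singleton]
    omega
  have hdvd : r ∣ Nat.card X := by
    rw [← horb e0 h0]
    exact Subgroup.index_dvd_card _
  have hsub : ∀ K : Subgroup X, FaithfulSMul K V := fun K =>
    ⟨fun {a b} h => Subtype.ext (FaithfulSMul.eq_of_smul_eq_smul (α := V) h)⟩
  have hS : ∀ P : Sylow r X, Nat.card P = r := by
    intro P
    have := hsub (P : Subgroup X)
    have h1 : Nat.card (P : Subgroup X) ∣ r := card_dvd_of_isPGroup hr hV' P.isPGroup'
    have h3 : r ∣ Nat.card (P : Subgroup X) := P.dvd_card_of_dvd_card hdvd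
    exact Nat.dvd_antisymm h1 h3
  have hN : ∀ P : Sylow r X, ∃ m, m ∣ n ∧ Nat.card (Subgroup.normalizer ((P : Subgroup X) : Set X)) = r * m := by
    intro P
    set N := Subgroup.normalizer ((P : Subgroup X) : Set X) with hNdef
    have := hsub N
    refine card_dvd_of_normal hr hV h2 ((P : Subgroup X).subgroupOf N) inferInstance ?_
    rw [Nat.card_congr (Subgroup.subgroupOfEquivOfLe Subgroup.le_normalizer).toEquiv]
    exact hS P
  obtain ⟨P⟩ : Nonempty (Sylow r X) := inferInstance
  obtain ⟨m, hm, hNm⟩ := hN P
  have hcount := (Subgroup.normalizer ((P : Subgroup X) : Set X)).card_mul_index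
  rw [card_sylow_eq P, hNm] at hcount
  have hmod := card_sylow_modEq_one r X
  by_cases hone : Nat.card (Sylow r X) = 1
  · have hnorm : (P : Subgroup X).Normal := by
      have : Subsingleton (Sylow r X) := (Nat.card_eq_one_iff_unique.1 hone).1
      exact P.normal_of_subsingleton
    rw [hone, mul_one] at hcount
    rcases (Nat.dvd_prime hn).1 hm with rfl | rfl
    · left
      omega
    · right; left
      exact ⟨P, hnorm, hS P, by rw [← hcount, mul_comm]⟩
  have hpos : 0 < Nat.card (Sylow r X) := Nat.card_pos
  have hgt : 1 < Nat.card (Sylow r X) := by omega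
  rcases (Nat.dvd_prime hn).1 hm with hm1 | hmn
  · -- self-normalising Sylow subgroup
    exfalso
    have hcomm : ∀ a ∈ (P : Subgroup X), ∀ b ∈ (P : Subgroup X), a * b = b * a := by
      have hc : IsCyclic P := isCyclic_of_prime_card (hS P)
      have := IsCyclic.isMulCommutative (α := P)
      intro a ha b hb
      have := mul_comm' (⟨a, ha⟩ : P) ⟨b, hb⟩
      exact congrArg Subtype.val this
    have hNP : Subgroup.normalizer ((P : Subgroup X) : Set X) = (P : Subgroup X) := by
      symm
      apply Subgroup.eq_of_le_of_card_ge Subgroup.le_normalizer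
      rw [hNm, hm1, mul_one]
      exact (hS P).ge
    have hle : Subgroup.normalizer ((P : Subgroup X) : Set X) ≤ Subgroup.centralizer ((P : Subgroup X) : Set X) := by
      rw [hNP]
      intro a ha
      rw [Subgroup.mem_centralizer_iff]
      intro b hb
      exact (hcomm b hb a ha)
    set K := (MonoidHom.transferSylow P hle).ker with hK
    have hcomp := MonoidHom.ker_transferSylow_isComplement' P hle
    have hKi : K.index = r := by
      have := hcomp.symm.index_eq_card
      rw [hS P] at this
      exact this
    have hKcard : Nat.card K * r = Nat.card X := by rw [← hKi]; exact K.card_mul_index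
    have hcopK : ¬ r ∣ Nat.card K := by
      have h3 : r * 1 * Nat.card (Sylow r X) = Nat.card K * r := by
        rw [hKcard, ← hcount, hm1]
      have h4 : Nat.card (Sylow r X) = Nat.card K := by
        rw [mul_one, mul_comm] at h3
        exact Nat.eq_of_mul_eq_mul_right hr.pos h3
      rw [← h4]
      exact not_dvd_card_sylow r X
    have hstab : ∀ v : V, v ≠ 0 → stabilizer X v = K := by
      intro v hv
      have h3 : (stabilizer X v).index = r := horb v hv
      have h4 : Nat.card (stabilizer X v) = Nat.card K := by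
        have h5 := (stabilizer X v).card_mul_index
        rw [h3, ← hKcard] at h5
        exact Nat.eq_of_mul_eq_mul_right hr.pos h5
      have h5 : K.relIndex (stabilizer X v) = 1 := by
        have h6 : K.relIndex (stabilizer X v) ∣ r := hKi ▸ Subgroup.relIndex_dvd_index_of_normal K _
        have h7 : K.relIndex (stabilizer X v) ∣ Nat.card K := h4 ▸ Subgroup.relIndex_dvd_card K _
        rcases (Nat.dvd_prime hr).1 h6 with h8 | h8
        · exact h8
        · exact absurd (h8 ▸ h7) hcopK
      exact Subgroup.eq_of_le_of_card_ge (Subgroup.relIndex_eq_one.1 h5) h4.ge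
    have hKbot : K = ⊥ := by
      rw [eq_bot_iff]
      intro x hx
      rw [Subgroup.mem_bot]
      refine FaithfulSMul.eq_of_smul_eq_smul (α := V) fun w => ?_
      rw [one_smul]
      by_cases hw : w = 0
      · rw [hw, smul_zero]
      · have : x ∈ stabilizer X w := by rw [hstab w hw]; exact hx
        exact this
    have h3 : Nat.card K = 1 := by rw [hKbot]; exact Subgroup.card_bot
    rw [h3, one_mul, ← hcount, hm1, mul_one] at hKcard
    have h4 : 1 = Nat.card (Sylow r X) := Nat.eq_of_mul_eq_mul_left hr.pos (by rw [mul_one]; exact hKcard)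
    omega
  · right; right
    subst hmn
    refine ⟨?_, ?_, m * Nat.card (Sylow r X), ?_, ?_, dvd_mul_right _ _⟩
    · -- simplicity
      let α := {v : V // v ≠ 0}
      letI : Fintype α := Fintype.ofFinite α
      letI act : MulAction X α :=
        { smul := fun x v => ⟨x • (v : V), fun h => v.2 ((smul_eq_zero_iff_eq x).1 h)⟩
          one_smul := fun v => Subtype.ext (one_smul X (v : V))
          mul_smul := fun x y v => Subtype.ext (mul_smul x y (v : V)) }
      have hcoe : ∀ (x : X) (v : α), ((x • v : α) : V) = x • (v : V) := fun _ _ => rfl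
      have hf : FaithfulSMul X α := ⟨fun {a b} h => by
        refine FaithfulSMul.eq_of_smul_eq_smul (α := V) fun w => ?_
        by_cases hw : w = 0
        · rw [hw, smul_zero, smul_zero]
        · exact congrArg Subtype.val (h ⟨w, hw⟩)⟩
      have ht : IsPretransitive X α := ⟨fun a b => by
        obtain ⟨x, hx⟩ := htr a b a.2 b.2
        exact ⟨x, Subtype.ext hx⟩⟩
      have hα : Fintype.card α = r := by
        rw [← Nat.card_eq_fintype_card]
        have h3 : Nat.card α = (({0} : Set V)ᶜ).ncard := by
          rw [← Nat.card_coe_set_eq]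
          rfl
        rw [h3, Set.ncard_compl, hV', Set.ncard_singleton]
        omega
      refine simple_of_prime_degree (ℓ := m) hα hS hgt hn ?_
      intro Q
      have h3 := (Subgroup.normalizer ((Q : Subgroup X) : Set X)).card_mul_index
      rw [card_sylow_eq Q, ← hcount] at h3
      exact Nat.eq_of_mul_eq_mul_right hpos h3
    · intro hc
      have hnorm : (P : Subgroup X).Normal := by
        refine ⟨fun a ha g => ?_⟩
        rw [mul_comm' g a, mul_inv_cancel_right]
        exact ha
      have := Sylow.unique_of_normal P hnorm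
      have : Nat.card (Sylow r X) = 1 := Nat.card_unique
      omega
    · rw [← hcount]; ring
    · have := hmod.mul_left m
      rwa [mul_one] at this

end Cfsg.Agent.H535.Mers
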