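import Cfsg.Statements.S4179
import Cfsg.Agent.H535.MersMain
import Cfsg.Agent.H535.MersKnown

set_option autoImplicit false
open Cfsg

universe u

namespace Cfsg.Agent.H535.MersFinal

open Cfsg.Agent.H535 Cfsg.Agent.H535.Mers

theorem card_gl {V : Type*} [AddCommGroup V] [Module (ZMod 2) V] [Finite V] (n : ℕ)
    (hn : Module.finrank (ZMod 2) V = n) (hn1 : 1 ≤ n) : Nat.card (V ≃ₗ[ZMod 2] V) = G n := by
  have e : V ≃ₗ[ZMod 2] (Fin n → ZMod 2) := (Module.finBasisOfFinrankEq (ZMod 2) V hn).equivFun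
  have h1 : Nat.card (V ≃ₗ[ZMod 2] V) = Nat.card ((Fin n → ZMod 2) ≃ₗ[ZMod 2] (Fin n → ZMod 2)) :=
    Nat.card_congr
      { toFun := fun f => (e.symm.trans f).trans e
        invFun := fun f => (e.trans f).trans e.symm
        left_inv := fun f => by ext x; simp
        right_inv := fun f => by ext x; simp }
  have h2 : Nat.card ((Fin n → ZMod 2) ≃ₗ[ZMod 2] (Fin n → ZMod 2)) = Nat.card (GL (Fin n) (ZMod 2)) :=
    Nat.card_congr ((Matrix.GeneralLinearGroup.toLin (n := Fin n) (R := ZMod 2)).trans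
      (LinearMap.GeneralLinearGroup.generalLinearEquiv (ZMod 2) (Fin n → ZMod 2))).toEquiv.symm
  rw [h1, h2, Matrix.card_GL_field, ZMod.card, NotCT.prod_gl 2 n hn1]
  norm_num [G]

/-- Let V be a vector space of dimension n over the field with two elements with 2^n − 1 prime, and H a group of invertible linear maps of V. Then H is transitive on the non-zero vectors of V if and only if H is cyclic of order 2^n − 1, or H has order n·(2^n − 1) and contains a normal cyclic subgroup of order 2^n − 1, or H is the whole general linear group of V. -/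
theorem main (known : ∀ (X : Type u) [Group X] [Finite X] [IsSimpleGroup X], Cfsg.IsKnownSimple' X)
    {V : Type u} [AddCommGroup V] [Module (ZMod 2) V] [Finite V] (n : ℕ) (hn : Module.finrank (ZMod 2) V = n)
    (hprime : (2 ^ n - 1).Prime) (H : Subgroup (V ≃ₗ[ZMod 2] V)) :
    (∀ v w : V, v ≠ 0 → w ≠ 0 → ∃ h ∈ H, h v = w) ↔
      ((IsCyclic ↥H ∧ Nat.card ↥H = 2 ^ n - 1) ∨
       (Nat.card ↥H = n * (2 ^ n - 1) ∧ ∃ C : Subgroup (V ≃ₗ[ZMod 2] V), C ≤ H ∧ (C.subgroupOf H).Normal ∧
          IsCyclic ↥C ∧ Nat.card ↥C = 2 ^ n - 1) ∨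
       H = ⊤) := by
  have hnp : n.Prime := Nat.Prime.of_mersenne hprime
  have hV : Nat.card V = 2 ^ n := by
    rw [Module.natCard_eq_pow_finrank (K := ZMod 2), hn, Nat.card_zmod]
  have h2V : ∀ x : V, x + x = 0 := by
    intro x
    have h1 : ((1 : ZMod 2) + 1) • x = 0 := by
      have : (1 : ZMod 2) + 1 = 0 := by decide
      rw [this, zero_smul]
    rwa [add_smul, one_smul] at h1
  have hV' : Nat.card V = (2 ^ n - 1) + 1 := by
    have := Nat.one_le_two_pow (n := n)
    omega
  have hGL := card_gl n hn hnp.one_lt.le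
  have hfinGL : Finite (V ≃ₗ[ZMod 2] V) := by
    refine Nat.finite_of_card_ne_zero ?_
    rw [hGL]
    exact (Nat.mul_pos (by positivity) (pA_two_pos _)).ne'
  have hfaith : ∀ K : Subgroup (V ≃ₗ[ZMod 2] V), FaithfulSMul K V := fun K =>
    ⟨fun {a b} h => Subtype.ext (LinearEquiv.ext h)⟩
  have htrans : ∀ C : Subgroup (V ≃ₗ[ZMod 2] V), Nat.card C = 2 ^ n - 1 → ∀ v w : V, v ≠ 0 → w ≠ 0 →
      ∃ h ∈ C, h v = w := by
    intro C hC v w hv hw
    have := hfaith C
    obtain ⟨c, hc⟩ := (regular (K := C) hprime hV' hC hv).1 w hw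
    exact ⟨c, c.2, hc⟩
  constructor
  · intro h
    have := hfaith H
    rcases trichotomy (V := V) (X := H) hnp hprime hV h2V (fun v w hv hw => by
      obtain ⟨x, hx, hxv⟩ := h v w hv hw
      exact ⟨⟨x, hx⟩, hxv⟩) with h1 | ⟨R, hRn, hR, hH⟩ | ⟨hs, hna, c, hc, hcn, hnc⟩
    · left
      have : Fact (2 ^ n - 1).Prime := ⟨hprime⟩
      exact ⟨isCyclic_of_prime_card h1, h1⟩
    · right; left
      refine ⟨hH, R.map H.subtype, Subgroup.map_subtype_le R, ?_, ?_, ?_⟩
      · have h3 : (R.map H.subtype).subgroupOf H = R := Subgroup.comap_map_eq_self_of_injective H.subtype_injective R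
        rw [h3]
        exact hRn
      · have : Fact (2 ^ n - 1).Prime := ⟨hprime⟩
        refine isCyclic_of_prime_card (p := 2 ^ n - 1) ?_
        rw [← hR]
        exact (Nat.card_congr (R.equivMapOfInjective H.subtype H.subtype_injective).toEquiv).symm
      · rw [← hR]
        exact (Nat.card_congr (R.equivMapOfInjective H.subtype H.subtype_injective).toEquiv).symm
    · right; right
      apply Subgroup.eq_top_of_card_eq
      rw [hGL]
      have hdvd : Nat.card H ∣ G n := hGL ▸ Subgroup.card_subgroup_dvd_card H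
      by_cases hn2 : n = 2
      · -- `GL(2,2)` has order six
        subst hn2
        have h6 : G 2 = 6 := by decide +kernel
        rw [h6] at hdvd ⊢
        obtain ⟨d, rfl⟩ := hnc
        have h7 : Nat.card H = 6 * d := by rw [hc]; norm_num; ring
        rw [h7] at hdvd ⊢
        have h8 := Nat.le_of_dvd (by norm_num) hdvd
        have h9 : 0 < Nat.card H := Nat.card_pos
        omega
      · exact card_eq_G hna (known H) hnp hn2 hprime hc hcn hdvd
  · rintro (⟨-, h1⟩ | ⟨-, C, hCH, -, -, hC⟩ | h1)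
    · exact htrans H h1
    · intro v w hv hw
      obtain ⟨x, hx, hxv⟩ := htrans C hC v w hv hw
      exact ⟨x, hCH hx, hxv⟩
    · intro v w hv hw
      have : Fact (2 ^ n - 1).Prime := ⟨hprime⟩
      have h3 : 2 ^ n - 1 ∣ Nat.card (V ≃ₗ[ZMod 2] V) := by
        rw [hGL, G]
        refine dvd_mul_of_dvd_right (mem_pA _ _ hnp.two_le ?_) _
        have := hnp.two_le
        omega
      obtain ⟨g, hg⟩ := exists_prime_orderOf_dvd_card' (2 ^ n - 1) h3
      obtain ⟨x, -, hxv⟩ := htrans (Subgroup.zpowers g) (by rw [Nat.card_zpowers, hg]) v w hv hw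
      exact ⟨x, h1 ▸ Subgroup.mem_top x, hxv⟩

end Cfsg.Agent.H535.MersFinal
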