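import Mathlib
import Cfsg.Agent.Solvable.Glauberman
import Cfsg.Agent.Transfer.PGroupNormal
import Cfsg.Agent.H535.AHDefs

/-!
Layers of a normal p-subgroup (for S4162).
-/

set_option autoImplicit false
set_option linter.unusedSectionVars false

namespace Cfsg.Agent.AH

open Subgroup
open scoped Pointwise

variable {G : Type*} [Group G] [Finite G] {p : ℕ} [hp : Fact p.Prime]

/-- Coprime action: a coset `a B` fixed by the `p'`-element `g` contains an element commuting
with `g`. -/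
theorem exists_commute_in_coset (B : Subgroup G) [B.Normal] (hB : IsPGroup p B) {g a : G}
    (hg : (orderOf g).Coprime p) (ha : a⁻¹ * (g * a * g⁻¹) ∈ B) :
    ∃ b ∈ B, g * (a * b) = (a * b) * g := by
  have hcop : (Nat.card (zpowers g)).Coprime (Nat.card B) := by
    rw [Nat.card_zpowers]
    obtain ⟨n, hn⟩ := IsPGroup.iff_card.mp hB
    rw [hn]
    exact Nat.Coprime.pow_right n hg
  have hBn : zpowers g ≤ normalizer (B : Set G) := by
    rw [normalizer_eq_top]; exact le_top
  have hle : zpowers (a⁻¹ * g * a) ≤ zpowers g ⊔ B := by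
    rw [zpowers_le]
    have h1 : a⁻¹ * g * a = (a⁻¹ * (g * a * g⁻¹)) * g := by group
    rw [h1]
    exact mul_mem (mem_sup_right ha) (mem_sup_left (mem_zpowers g))
  have hcard : Nat.card (zpowers (a⁻¹ * g * a)) = Nat.card (zpowers g) := by
    rw [Nat.card_zpowers, Nat.card_zpowers]
    have h1 : a⁻¹ * g * a = MulAut.conj a⁻¹ g := by simp
    rw [h1]
    exact orderOf_injective (MulAut.conj a⁻¹).toMonoidHom (MulAut.conj a⁻¹).injective g
  obtain ⟨k, hk, hk2⟩ := Solvable.Glauberman.exists_conj_of_le_sup (zpowers g) B hBn hcop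
    (Or.inl inferInstance) _ hle hcard
  refine ⟨k, hk, ?_⟩
  have h1 : k * g * k⁻¹ ∈ zpowers (a⁻¹ * g * a) := by
    rw [← hk2]
    exact ⟨g, mem_zpowers g, by simp [MulAut.conj_apply]⟩
  obtain ⟨i, hi⟩ := mem_zpowers_iff.mp h1
  have h2 : (a⁻¹ * g * a) ^ i = a⁻¹ * g ^ i * a := by
    have := map_zpow (MulAut.conj a⁻¹) g i
    simp only [MulAut.conj_apply, inv_inv] at this
    exact this.symm
  -- mod B
  have h3 : (g ^ (i - 1) : G) ∈ B := by
    rw [← QuotientGroup.eq_one_iff]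
    have e1 : ((k : G) : G ⧸ B) = 1 := (QuotientGroup.eq_one_iff k).mpr hk
    have e2 : ((a⁻¹ * (g * a * g⁻¹) : G) : G ⧸ B) = 1 := (QuotientGroup.eq_one_iff _).mpr ha
    have e3 : ((k * g * k⁻¹ : G) : G ⧸ B) = g := by
      rw [QuotientGroup.mk_mul, QuotientGroup.mk_mul, QuotientGroup.mk_inv, e1]; simp
    have e4 : ((a⁻¹ * g * a : G) : G ⧸ B) = g := by
      have : a⁻¹ * g * a = (a⁻¹ * (g * a * g⁻¹)) * g := by group
      rw [this, QuotientGroup.mk_mul, e2, one_mul]
    have e5 := congrArg (fun x : G => (x : G ⧸ B)) hi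
    rw [e3, QuotientGroup.mk_zpow, e4] at e5
    rw [QuotientGroup.mk_zpow, zpow_sub_one, e5, mul_inv_cancel]
  have h4 : (g ^ (i - 1) : G) = 1 := by
    have h5 : orderOf (g ^ (i - 1)) ∣ Nat.card B := Subgroup.orderOf_dvd_natCard B h3
    have h6 : orderOf (g ^ (i - 1)) ∣ Nat.card (zpowers g) :=
      Subgroup.orderOf_dvd_natCard _ (zpow_mem (mem_zpowers g) _)
    rw [← orderOf_eq_one_iff]
    exact Nat.eq_one_of_dvd_coprimes hcop h6 h5
  have h5 : g ^ i = g := by
    have : g ^ i = g ^ (i - 1) * g := by rw [← zpow_add_one]; congr 1; ring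
    rw [this, h4, one_mul]
  rw [h2, h5] at hi
  calc g * (a * k) = a * (a⁻¹ * g * a) * k := by group
    _ = a * (k * g * k⁻¹) * k := by rw [hi]
    _ = a * k * g := by group

/-- A normal `p`-subgroup with nontrivial fixed points of `g`: there is a chief factor `A / B` of `G`
below it with `C_B(g) = 1`, `C_A(g) ≠ 1`. -/
theorem exists_layer (P : Subgroup G) [hPn : P.Normal] (hP : IsPGroup p P) (g : G)
    (hY : P ⊓ centralizer ({g} : Set G) ≠ ⊥) :
    ∃ B A : Subgroup G, B.Normal ∧ A.Normal ∧ B ≤ A ∧ A ≤ P ∧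
      B ⊓ centralizer ({g} : Set G) = ⊥ ∧ A ⊓ centralizer ({g} : Set G) ≠ ⊥ ∧
      (∀ a ∈ A, ∀ x ∈ P, a * x * a⁻¹ * x⁻¹ ∈ B) ∧ (∀ a ∈ A, a ^ p ∈ B) := by
  classical
  obtain ⟨B, hBmax⟩ := (Set.toFinite {B : Subgroup G | B.Normal ∧ B ≤ P ∧
    B ⊓ centralizer ({g} : Set G) = ⊥}).exists_maximal
    ⟨⊥, inferInstance, bot_le, bot_inf_eq _⟩
  obtain ⟨⟨hBn, hBP, hBg⟩, hBm⟩ := hBmax
  have hBP' : B < P := by
    refine lt_of_le_of_ne hBP ?_
    rintro rfl
    exact hY hBg
  obtain ⟨A, hAmin⟩ := (Set.toFinite {A : Subgroup G | A.Normal ∧ B < A ∧ A ≤ P}).exists_minimal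
    ⟨P, hPn, hBP', le_rfl⟩
  obtain ⟨⟨hAn, hBA, hAP⟩, hAm⟩ := hAmin
  have hAg : A ⊓ centralizer ({g} : Set G) ≠ ⊥ := by
    intro h0
    exact absurd (hBm ⟨hAn, hAP, h0⟩ hBA.le) (not_le_of_gt hBA)
  let f := QuotientGroup.mk' B
  have hf : Function.Surjective f := QuotientGroup.mk'_surjective B
  have hPbn : (P.map f).Normal := hPn.map f hf
  have hAbn : (A.map f).Normal := hAn.map f hf
  have hle : A.map f ≤ P.map f := map_mono hAP
  have hPb : IsPGroup p (P.map f) := hP.map f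
  -- nontrivial central element of `P / B` in `A / B`
  have hKn : ((A.map f).subgroupOf (P.map f)).Normal := hAbn.subgroupOf _
  have hK : (A.map f).subgroupOf (P.map f) ≠ ⊥ := by
    intro h0
    rw [subgroupOf_eq_bot] at h0
    have h1 : A.map f = ⊥ := by
      rw [← le_bot_iff]
      intro x hx
      exact h0.le_bot ⟨hx, hle hx⟩
    rw [Subgroup.map_eq_bot_iff, QuotientGroup.ker_mk'] at h1
    exact absurd h1 (not_le_of_gt hBA)
  obtain ⟨z, hzK, hzc, hzo⟩ := Transfer.PGroupNormal.exists_mem_inf_center_orderOf hPb _ hK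
  have hzA : (z : G ⧸ B) ∈ A.map f := hzK
  obtain ⟨a₀, ha₀, ha₀z⟩ := hzA
  have hz1 : (z : G ⧸ B) ≠ 1 := by
    intro h0
    have : z = 1 := Subtype.ext h0
    rw [this, orderOf_one] at hzo
    exact hp.out.one_lt.ne hzo
  have hzp : (z : G ⧸ B) ^ p = 1 := by
    have : z ^ p = 1 := by rw [← hzo]; exact pow_orderOf_eq_one z
    exact_mod_cast congrArg Subtype.val this
  -- first: centrality
  have hD : A ≤ A ⊓ (centralizer ((P.map f : Subgroup (G ⧸ B)) : Set (G ⧸ B))).comap f := by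
    refine hAm ⟨?_, ?_, inf_le_left.trans hAP⟩ inf_le_left
    · have h1 : (centralizer ((P.map f : Subgroup (G ⧸ B)) : Set (G ⧸ B))).Normal := inferInstance
      have h2 := h1.comap f
      exact normal_inf_normal _ _
    · refine lt_of_le_of_ne (le_inf hBA.le ?_) ?_
      · intro b hb
        rw [mem_comap]
        have : f b = 1 := (QuotientGroup.eq_one_iff b).mpr hb
        rw [this]
        exact one_mem _
      · intro h0
        have h1 : a₀ ∈ B := by
          rw [h0]
          refine mem_inf.mpr ⟨ha₀, ?_⟩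
          rw [mem_comap, ha₀z, mem_centralizer_iff]
          intro x hx
          have := (mem_center_iff.mp hzc) ⟨x, hx⟩
          exact congrArg Subtype.val this
        apply hz1
        rw [← ha₀z]
        exact (QuotientGroup.eq_one_iff a₀).mpr h1
  have hcomm : ∀ a ∈ A, ∀ x ∈ P, a * x * a⁻¹ * x⁻¹ ∈ B := by
    intro a ha x hx
    have h1 := (mem_inf.mp (hD ha)).2
    rw [mem_comap, mem_centralizer_iff] at h1
    have h2 := h1 (f x) (mem_map_of_mem f hx)
    rw [← QuotientGroup.eq_one_iff]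
    change f (a * x * a⁻¹ * x⁻¹) = 1
    rw [map_mul, map_mul, map_mul, map_inv, map_inv, ← h2]
    group
  refine ⟨B, A, hBn, hAn, hBA.le, hAP, hBg, hAg, hcomm, ?_⟩
  -- exponent
  let E : Subgroup G :=
    { carrier := {a | a ∈ A ∧ a ^ p ∈ B}
      one_mem' := ⟨A.one_mem, by simp [B.one_mem]⟩
      mul_mem' := by
        rintro a b ⟨ha, ha'⟩ ⟨hb, hb'⟩
        refine ⟨A.mul_mem ha hb, ?_⟩
        rw [← QuotientGroup.eq_one_iff] at ha' hb' ⊢
        have h1 : Commute (f a) (f b) := by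
          have h2 := hcomm a ha b (hAP hb)
          rw [← QuotientGroup.eq_one_iff] at h2
          change f (a * b * a⁻¹ * b⁻¹) = 1 at h2
          rw [map_mul, map_mul, map_mul, map_inv, map_inv] at h2
          have h3 := mul_inv_eq_one.mp h2
          exact mul_inv_eq_iff_eq_mul.mp h3
        change f ((a * b) ^ p) = 1
        change f (a ^ p) = 1 at ha'
        change f (b ^ p) = 1 at hb'
        rw [map_pow] at ha' hb' ⊢
        rw [map_mul, h1.mul_pow, ha', hb', one_mul]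
      inv_mem' := by
        rintro a ⟨ha, ha'⟩
        refine ⟨A.inv_mem ha, ?_⟩
        change a⁻¹ ^ p ∈ B
        rw [inv_pow]
        exact B.inv_mem ha' }
  have hE : A ≤ E := by
    refine hAm ⟨⟨?_⟩, ?_, fun x hx => hAP hx.1⟩ (fun x hx => hx.1)
    · rintro a ⟨ha, ha'⟩ x
      refine ⟨hAn.conj_mem a ha x, ?_⟩
      rw [conj_pow]
      exact hBn.conj_mem _ ha' x
    · refine lt_of_le_of_ne (fun b hb => ⟨hBA.le hb, B.pow_mem hb p⟩) ?_
      intro h0
      have h1 : a₀ ∈ B := by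
        rw [h0]
        refine ⟨ha₀, ?_⟩
        rw [← QuotientGroup.eq_one_iff]
        change f (a₀ ^ p) = 1
        rw [map_pow, ha₀z, hzp]
      apply hz1
      rw [← ha₀z]
      exact (QuotientGroup.eq_one_iff a₀).mpr h1
  intro a ha
  exact (hE ha).2

end Cfsg.Agent.AH
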