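import Mathlib
import Cfsg.Agent.H535.AHRegular

/-!
Regular linear groups with rational traces over `ZMod p`, `p ≥ 5` (for S4162), linear algebra part.
-/

set_option autoImplicit false
set_option linter.unusedSectionVars false

namespace Cfsg.Agent.AH

open Subgroup Module

/-- Quadratic relation for an endomorphism of a plane. -/
theorem quad_of_finrank_two {K : Type*} [Field K] {W : Type*} [AddCommGroup W] [Module K W]
    (hW : finrank K W = 2) (T : Module.End K W) :
    ∃ d : K, T * T = (LinearMap.trace K W T) • T - d • (1 : Module.End K W) := by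
  have hfin : FiniteDimensional K W := FiniteDimensional.of_finrank_pos (by omega)
  let b : Basis (Fin 2) K W := finBasisOfFinrankEq K W hW
  refine ⟨(LinearMap.toMatrix b b T).det, ?_⟩
  apply (LinearMap.toMatrix b b).injective
  rw [LinearMap.trace_eq_matrix_trace K b T, map_sub, map_smul, map_smul, LinearMap.toMatrix_mul,
    LinearMap.toMatrix_one]
  set A := LinearMap.toMatrix b b T
  ext i j
  fin_cases i <;> fin_cases j <;>
    simp [Matrix.mul_apply, Matrix.trace, Matrix.det_fin_two, Fin.sum_univ_two] <;> ring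

variable {p : ℕ} [hp : Fact p.Prime] {W : Type*} [AddCommGroup W] [Module (ZMod p) W] [Finite W]
variable {M : Type*} [Group M] [Finite M]

/-- A regular representation on nonzero vectors with rational traces. -/
structure RegRep (σ : M →* Module.End (ZMod p) W) : Prop where
  semi : ∀ (m : M) (w : W), w ≠ 0 → σ m w = w → m = 1
  trans : ∀ w w' : W, w ≠ 0 → w' ≠ 0 → ∃ m, σ m w = w'
  tr : ∀ (m : M) (j : ℕ), j.Coprime (orderOf m) →
    LinearMap.trace (ZMod p) W (σ (m ^ j)) = LinearMap.trace (ZMod p) W (σ m)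

namespace RegRep

variable {σ : M →* Module.End (ZMod p) W} (h : RegRep σ)

include h

theorem app_ne_zero (m : M) {w : W} (hw : w ≠ 0) : σ m w ≠ 0 := by
  intro h0
  apply hw
  have : σ m⁻¹ (σ m w) = w := by
    change (σ m⁻¹ * σ m) w = w
    rw [← map_mul]; simp
  rw [← this, h0, map_zero]

theorem card_add_one [Nontrivial W] : Nat.card M + 1 = Nat.card W := by
  obtain ⟨w₀, hw₀⟩ := exists_ne (0 : W)
  have h1 : Nat.card M = Nat.card {w : W // w ≠ 0} := by
    refine Nat.card_eq_of_bijective (fun m => (⟨σ m w₀, h.app_ne_zero m hw₀⟩ : {w : W // w ≠ 0}))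
      ⟨?_, ?_⟩
    · intro a b hab
      have h2 : σ a w₀ = σ b w₀ := congrArg Subtype.val hab
      have h3 : σ (b⁻¹ * a) w₀ = w₀ := by
        rw [map_mul]
        change σ b⁻¹ (σ a w₀) = w₀
        rw [h2]
        change (σ b⁻¹ * σ b) w₀ = w₀
        rw [← map_mul]; simp
      have h4 := h.semi _ w₀ hw₀ h3
      rw [inv_mul_eq_one] at h4
      exact h4.symm
    · rintro ⟨w, hw⟩
      obtain ⟨m, hm⟩ := h.trans w₀ w hw₀ hw
      exact ⟨m, Subtype.ext hm⟩
  rw [h1]
  classical
  have : Fintype W := Fintype.ofFinite W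
  rw [Nat.card_eq_fintype_card, Nat.card_eq_fintype_card]
  have h2 := Fintype.card_subtype_compl (fun w : W => w = 0)
  simp only [Fintype.card_subtype_eq] at h2
  have h3 : 0 < Fintype.card W := Fintype.card_pos
  have h4 : Fintype.card {w : W // w ≠ 0} = Fintype.card W - 1 := by
    rw [← h2]
  omega

theorem invol (m : M) (h1 : m ≠ 1) (h2 : m * m = 1) : σ m = -1 := by
  ext w
  by_contra hne
  apply h1
  refine h.semi m (σ m w + w) ?_ ?_
  · intro h0
    apply hne
    change σ m w = -w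
    exact eq_neg_of_add_eq_zero_left h0
  · rw [map_add]
    have : σ m (σ m w) = w := by
      change (σ m * σ m) w = w
      rw [← map_mul, h2, map_one]; rfl
    rw [this, add_comm]

theorem order_three (m : M) (h1 : m ≠ 1) (h2 : m ^ 3 = 1) : σ m ^ 2 + σ m + 1 = 0 := by
  ext w
  by_contra hne
  apply h1
  refine h.semi m ((σ m ^ 2 + σ m + 1 : Module.End (ZMod p) W) w) hne ?_
  have h3 : σ m * (σ m ^ 2 + σ m + 1) = σ m ^ 2 + σ m + 1 := by
    rw [mul_add, mul_add, ← pow_succ', ← map_pow σ m 3, h2, map_one, mul_one, ← pow_two]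
    abel
  change (σ m * (σ m ^ 2 + σ m + 1) : Module.End (ZMod p) W) w = _
  rw [h3]

theorem injective [Nontrivial W] : ∀ m : M, σ m = 1 → m = 1 := by
  intro m hm
  obtain ⟨w₀, hw₀⟩ := exists_ne (0 : W)
  exact h.semi m w₀ hw₀ (by rw [hm]; rfl)

omit h in
theorem trace_smul_one (hW : finrank (ZMod p) W = 2) (c : ZMod p) :
    LinearMap.trace (ZMod p) W (c • (1 : Module.End (ZMod p) W)) = c * 2 := by
  rw [map_smul, LinearMap.trace_one, hW]
  simp

omit h in
theorem smul_one_inj [Nontrivial W] {a b : ZMod p}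
    (hab : a • (1 : Module.End (ZMod p) W) = b • (1 : Module.End (ZMod p) W)) : a = b := by
  obtain ⟨w₀, hw₀⟩ := exists_ne (0 : W)
  have h1 := LinearMap.congr_fun hab w₀
  simp only [LinearMap.smul_apply, Module.End.one_apply] at h1
  exact smul_left_injective _ hw₀ h1

omit h in
theorem two_ne (hp5 : 5 ≤ p) : (2 : ZMod p) ≠ 0 := by
  intro h2
  have h3 : ((2 : ℕ) : ZMod p) = 0 := by exact_mod_cast h2
  rw [ZMod.natCast_eq_zero_iff] at h3
  have := Nat.le_of_dvd (by norm_num) h3
  omega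

omit h in
theorem three_ne (hp5 : 5 ≤ p) : (3 : ZMod p) ≠ 0 := by
  intro h2
  have h3 : ((3 : ℕ) : ZMod p) = 0 := by exact_mod_cast h2
  rw [ZMod.natCast_eq_zero_iff] at h3
  have := Nat.le_of_dvd (by norm_num) h3
  omega

variable [Nontrivial W] (hW : finrank (ZMod p) W = 2) (hp5 : 5 ≤ p)
include hW hp5

theorem no_eight (m : M) : orderOf m ≠ 8 := by
  intro ho
  have h8 : m ^ 8 = 1 := by rw [← ho]; exact pow_orderOf_eq_one m
  have h4 : m ^ 4 ≠ 1 := by
    intro h4
    have := orderOf_dvd_of_pow_eq_one h4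
    rw [ho] at this
    omega
  have e4 : σ m ^ 4 = -1 := by
    rw [← map_pow]
    exact h.invol _ h4 (by rw [← pow_add]; exact h8)
  have t5 := h.tr m 5 (by rw [ho]; norm_num)
  have e5 : σ (m ^ 5) = - σ m := by
    rw [map_pow, pow_succ, e4, neg_one_mul]
  rw [e5, map_neg] at t5
  have t0 : LinearMap.trace (ZMod p) W (σ m) = 0 := by
    have : (2 : ZMod p) * LinearMap.trace (ZMod p) W (σ m) = 0 := by linear_combination -t5
    exact (mul_eq_zero.mp this).resolve_left (two_ne hp5)
  obtain ⟨d, hd⟩ := quad_of_finrank_two hW (σ m)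
  rw [t0, zero_smul, zero_sub, ← neg_smul] at hd
  have hd2 : d * d = -1 := by
    apply smul_one_inj (W := W)
    have : σ m ^ 4 = (σ m * σ m) * (σ m * σ m) := by
      simp only [pow_succ, pow_zero, one_mul, mul_assoc]
    rw [this, hd, smul_mul_smul_comm, mul_one] at e4
    rw [neg_smul, one_smul, ← e4]
    congr 1; ring
  have t3 := h.tr (m ^ 2) 3 (by
    apply Nat.Coprime.coprime_dvd_right (orderOf_pow_dvd 2)
    rw [ho]; norm_num)
  have e2 : σ (m ^ 2) = (-d) • (1 : Module.End (ZMod p) W) := by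
    rw [map_pow, pow_two, hd]
  have e6 : σ ((m ^ 2) ^ 3) = ((-d) ^ 3) • (1 : Module.End (ZMod p) W) := by
    rw [map_pow, e2, smul_pow, one_pow]
  rw [e2, e6, trace_smul_one hW, trace_smul_one hW] at t3
  have t4 := mul_right_cancel₀ (two_ne hp5) t3
  have h5 : (2 : ZMod p) * d = 0 := by linear_combination t4 + d * hd2
  have h6 : d = 0 := (mul_eq_zero.mp h5).resolve_left (two_ne hp5)
  rw [h6] at hd2
  have : (1 : ZMod p) = 0 := by linear_combination hd2
  exact one_ne_zero this

theorem no_nine (m : M) : orderOf m ≠ 9 := by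
  intro ho
  have h9 : m ^ 9 = 1 := by rw [← ho]; exact pow_orderOf_eq_one m
  have h3 : m ^ 3 ≠ 1 := by
    intro h4
    have := orderOf_dvd_of_pow_eq_one h4
    rw [ho] at this
    omega
  have e3 := h.order_three (m ^ 3) h3 (by rw [← pow_mul]; exact h9)
  have e4 : σ (m ^ 7) + σ (m ^ 4) + σ m = 0 := by
    have h1 : σ (m ^ 7) = σ (m ^ 3) ^ 2 * σ m := by
      rw [← map_pow, ← map_mul]; congr 1; rw [← pow_mul, ← pow_succ]
    have h2 : σ (m ^ 4) = σ (m ^ 3) * σ m := by
      rw [← map_mul, ← pow_succ]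
    rw [h1, h2]
    calc σ (m ^ 3) ^ 2 * σ m + σ (m ^ 3) * σ m + σ m
        = (σ (m ^ 3) ^ 2 + σ (m ^ 3) + 1) * σ m := by rw [add_mul, add_mul, one_mul]
      _ = 0 := by rw [e3, zero_mul]
  have t7 := h.tr m 7 (by rw [ho]; norm_num)
  have t4 := h.tr m 4 (by rw [ho]; norm_num)
  have t2 := h.tr m 2 (by rw [ho]; norm_num)
  have t := congrArg (LinearMap.trace (ZMod p) W) e4
  rw [map_add, map_add, t7, t4, map_zero] at t
  have t0 : LinearMap.trace (ZMod p) W (σ m) = 0 := by
    have : (3 : ZMod p) * LinearMap.trace (ZMod p) W (σ m) = 0 := by linear_combination t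
    exact (mul_eq_zero.mp this).resolve_left (three_ne hp5)
  obtain ⟨d, hd⟩ := quad_of_finrank_two hW (σ m)
  rw [t0, zero_smul, zero_sub, ← neg_smul] at hd
  have e2 : σ (m ^ 2) = (-d) • (1 : Module.End (ZMod p) W) := by
    rw [map_pow, pow_two, hd]
  rw [e2, trace_smul_one hW, t0] at t2
  have h5 : -d = 0 := (mul_eq_zero.mp t2).resolve_right (two_ne hp5)
  rw [h5, zero_smul] at e2
  obtain ⟨w₀, hw₀⟩ := exists_ne (0 : W)
  apply h.app_ne_zero (m ^ 2) hw₀
  rw [e2]; rfl

theorem no_twelve (m : M) : orderOf m ≠ 12 := by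
  intro ho
  have h12 : m ^ 12 = 1 := by rw [← ho]; exact pow_orderOf_eq_one m
  have h6 : m ^ 6 ≠ 1 := by
    intro h4
    have := orderOf_dvd_of_pow_eq_one h4
    rw [ho] at this
    omega
  have h4 : m ^ 4 ≠ 1 := by
    intro h4
    have := orderOf_dvd_of_pow_eq_one h4
    rw [ho] at this
    omega
  have e6 : σ m ^ 6 = -1 := by
    rw [← map_pow]
    exact h.invol _ h6 (by rw [← pow_add]; exact h12)
  have e4 := h.order_three (m ^ 4) h4 (by rw [← pow_mul]; exact h12)
  have t7 := h.tr m 7 (by rw [ho]; norm_num)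
  have e7 : σ (m ^ 7) = - σ m := by
    rw [map_pow, pow_succ, e6, neg_one_mul]
  rw [e7, map_neg] at t7
  have t0 : LinearMap.trace (ZMod p) W (σ m) = 0 := by
    have : (2 : ZMod p) * LinearMap.trace (ZMod p) W (σ m) = 0 := by linear_combination -t7
    exact (mul_eq_zero.mp this).resolve_left (two_ne hp5)
  obtain ⟨d, hd⟩ := quad_of_finrank_two hW (σ m)
  rw [t0, zero_smul, zero_sub, ← neg_smul] at hd
  have e2 : σ (m ^ 2) = (-d) • (1 : Module.End (ZMod p) W) := by
    rw [map_pow, pow_two, hd]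
  have hd3 : d ^ 3 = 1 := by
    apply smul_one_inj (W := W)
    have h1 : σ m ^ 6 = σ (m ^ 2) ^ 3 := by rw [map_pow, ← pow_mul]
    rw [h1, e2, smul_pow, one_pow] at e6
    have h2 : d ^ 3 = - ((-d) ^ 3) := by ring
    rw [h2, neg_smul, e6, neg_neg, one_smul]
  have hd4 : d ^ 4 + d ^ 2 + 1 = 0 := by
    apply smul_one_inj (W := W)
    have h1 : σ (m ^ 4) = σ (m ^ 2) ^ 2 := by rw [← map_pow, ← pow_mul]
    rw [h1, e2, smul_pow, one_pow, smul_pow, one_pow] at e4
    rw [zero_smul, ← e4, add_smul, add_smul, one_smul]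
    congr 2
    · congr 1; ring
    · congr 1; ring
  have t5 := h.tr (m ^ 2) 5 (by
    have h1 : orderOf (m ^ 2) = 6 := by
      rw [orderOf_pow, ho]; rfl
    rw [h1]; norm_num)
  have e10 : σ ((m ^ 2) ^ 5) = ((-d) ^ 5) • (1 : Module.End (ZMod p) W) := by
    rw [map_pow, e2, smul_pow, one_pow]
  rw [e2, e10, trace_smul_one hW, trace_smul_one hW] at t5
  have t6 := mul_right_cancel₀ (two_ne hp5) t5
  -- -d^5 = -d
  have h7 : d ^ 2 = d := by linear_combination -t6 - d ^ 2 * hd3
  have h8 : (3 : ZMod p) = 0 := by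
    have h9 : d = 1 := by
      have : d ^ 3 = d := by
        calc d ^ 3 = d ^ 2 * d := by ring
          _ = d := by rw [h7, ← pow_two, h7]
      rw [← this]; exact hd3
    rw [h9] at hd4
    linear_combination hd4
  exact three_ne hp5 h8

end RegRep

end Cfsg.Agent.AH
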