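import Mathlib
import Cfsg.Agent.H535.AHRegular2

/-!
Regular linear groups with rational traces over `ZMod p`, `p ≥ 5` (for S4162): the order is 24.
-/

set_option autoImplicit false
set_option linter.unusedSectionVars false

namespace Cfsg.Agent.AH

open Subgroup Module

theorem smooth_three {n : ℕ} (hn : n ≠ 0) (h : ∀ q : ℕ, q.Prime → q ∣ n → q ≤ 3) :
    ∃ a b : ℕ, n = 2 ^ a * 3 ^ b := by
  refine ⟨n.factorization 2, (ordCompl[2] n).factorization 3, ?_⟩
  have h1 : ordProj[2] n * ordCompl[2] n = n := Nat.ordProj_mul_ordCompl_eq_self n 2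
  set m := ordCompl[2] n with hm
  have h2 : ordProj[3] m * ordCompl[3] m = m := Nat.ordProj_mul_ordCompl_eq_self m 3
  have hm0 : m ≠ 0 := (Nat.ordCompl_pos 2 hn).ne'
  have h3 : ordCompl[3] m = 1 := by
    by_contra hne
    obtain ⟨q, hq, hqd⟩ := Nat.exists_prime_and_dvd hne
    have h4 : q ∣ m := hqd.trans (Nat.ordCompl_dvd m 3)
    have h5 : q ∣ n := h4.trans (Nat.ordCompl_dvd n 2)
    have h6 := h q hq h5
    have h7 := hq.two_le
    have h8 : q = 2 ∨ q = 3 := by omega
    rcases h8 with rfl | rfl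
    · exact Nat.not_dvd_ordCompl Nat.prime_two hn h4
    · exact Nat.not_dvd_ordCompl Nat.prime_three hm0 hqd
  rw [h3, mul_one] at h2
  rw [h2, h1]

variable {p : ℕ} [hp : Fact p.Prime] {W : Type*} [AddCommGroup W] [Module (ZMod p) W] [Finite W]
variable {M : Type*} [Group M] [Finite M]

namespace RegRep

variable {σ : M →* Module.End (ZMod p) W} (h : RegRep σ)

include h

theorem finrank_ne_one [Nontrivial W] (hp5 : 5 ≤ p) : finrank (ZMod p) W ≠ 1 := by
  intro h1
  obtain ⟨w₀, hw₀⟩ := exists_ne (0 : W)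
  have h2 := (finrank_eq_one_iff_of_nonzero' w₀ hw₀).mp h1
  have h2w : (2 : ZMod p) • w₀ ≠ 0 := smul_ne_zero (two_ne hp5) hw₀
  obtain ⟨m, hm⟩ := h.trans w₀ _ hw₀ h2w
  have hs : σ m = (2 : ZMod p) • (1 : Module.End (ZMod p) W) := by
    ext w
    obtain ⟨c, rfl⟩ := h2 w
    rw [map_smul, hm, LinearMap.smul_apply, Module.End.one_apply, smul_comm]
  have hs' : σ m⁻¹ = (2 : ZMod p)⁻¹ • (1 : Module.End (ZMod p) W) := by
    have h3 : σ m⁻¹ * σ m = 1 := by rw [← map_mul]; simp
    rw [hs, mul_smul_comm, mul_one] at h3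
    rw [← h3, smul_smul, inv_mul_cancel₀ (two_ne hp5), one_smul]
  have hinv : m ^ (orderOf m - 1) = m⁻¹ := by
    have := orderOf_pos m
    rw [eq_inv_iff_mul_eq_one, ← pow_succ, Nat.sub_add_cancel this, pow_orderOf_eq_one]
  have hcop : (orderOf m - 1).Coprime (orderOf m) := by
    have := orderOf_pos m
    rcases Nat.lt_or_ge 1 (orderOf m) with h4 | h4
    · have h5 : (orderOf m - 1) + 1 = orderOf m := by omega
      rw [← h5]
      simp
    · exfalso
      have h5 : orderOf m = 1 := by omega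
      rw [orderOf_eq_one_iff] at h5
      rw [h5, map_one, Module.End.one_apply] at hm
      have h6 : (1 : ZMod p) • w₀ = (2 : ZMod p) • w₀ := by rw [one_smul]; exact hm
      have h7 := smul_left_injective _ hw₀ h6
      have : (1 : ZMod p) = 0 := by linear_combination -h7
      exact one_ne_zero this
  have h3 := h.tr m _ hcop
  rw [hinv, hs', hs, map_smul, map_smul, LinearMap.trace_one, h1] at h3
  simp only [Nat.cast_one, smul_eq_mul, mul_one] at h3
  have h4 : (2 : ZMod p) * 2⁻¹ = 1 := mul_inv_cancel₀ (two_ne hp5)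
  rw [h3] at h4
  exact three_ne hp5 (by linear_combination h4)

theorem invol_unique [Nontrivial W] {x y : M} (hx : x ≠ 1) (hx2 : x * x = 1) (hy : y ≠ 1)
    (hy2 : y * y = 1) : y = x := by
  have h1 : σ (x * y) = 1 := by
    rw [map_mul, h.invol x hx hx2, h.invol y hy hy2]; simp
  have h2 := h.injective _ h1
  have h3 : x * y = x * x := by rw [h2, hx2]
  exact mul_left_cancel h3

variable [Nontrivial W] (hW : finrank (ZMod p) W = 2) (hp5 : 5 ≤ p)
include hW hp5

theorem not_sixteen_dvd : ¬ 16 ∣ Nat.card M := by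
  intro h16
  have h1 : 2 ^ 4 ∣ Nat.card M := by simpa using h16
  obtain ⟨Q, hQ⟩ := Sylow.exists_subgroup_card_pow_prime 2 h1
  have hQ' : Nat.card Q = 16 := by rw [hQ]; norm_num
  obtain ⟨z, hz⟩ := exists_prime_orderOf_dvd_card' (G := Q) 2 (by rw [hQ']; norm_num)
  have hz1 : z ≠ 1 := by
    intro h0; rw [h0, orderOf_one] at hz; omega
  have hz2 : z * z = 1 := by rw [← pow_two, ← hz]; exact pow_orderOf_eq_one z
  refine no_sixteen hQ' z hz1 hz2 ?_ ?_
  · intro x hx
    by_cases hx1 : x = 1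
    · exact Or.inl hx1
    · right
      apply Subtype.ext
      apply h.invol_unique (x := (z : M)) (y := (x : M))
      · exact fun h0 => hz1 (Subtype.ext h0)
      · exact congrArg Subtype.val hz2
      · exact fun h0 => hx1 (Subtype.ext h0)
      · exact congrArg Subtype.val hx
  · intro x
    by_contra hx4
    have h2 : orderOf x ∣ 2 ^ 4 := by rw [← hQ]; exact orderOf_dvd_natCard x
    obtain ⟨k, hk, hk2⟩ := (Nat.dvd_prime_pow Nat.prime_two).mp h2
    have hk3 : 3 ≤ k := by
      by_contra hlt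
      apply hx4
      rw [← orderOf_dvd_iff_pow_eq_one, hk2]
      have : (4 : ℕ) = 2 ^ 2 := by norm_num
      rw [this]
      exact pow_dvd_pow 2 (by omega)
    have h5 : orderOf (x ^ 2 ^ (k - 3)) = 8 := by
      rw [orderOf_pow, hk2, Nat.gcd_eq_right (pow_dvd_pow 2 (by omega)),
        Nat.pow_div (by omega) (by norm_num)]
      have : k - (k - 3) = 3 := by omega
      rw [this]
    apply h.no_eight hW hp5 ((x ^ 2 ^ (k - 3) : Q) : M)
    rw [Subgroup.orderOf_coe, h5]

theorem not_nine_dvd : ¬ 9 ∣ Nat.card M := by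
  classical
  intro h9
  have h1 : 3 ^ 2 ∣ Nat.card M := by simpa using h9
  obtain ⟨Q, hQ⟩ := Sylow.exists_subgroup_card_pow_prime 3 h1
  have hcomm : ∀ a b : Q, a * b = b * a :=
    (IsPGroup.isMulCommutative_of_card_eq_prime_sq (p := 3) hQ).is_comm.comm
  have hord : ∀ a : Q, a ^ 3 = 1 := by
    intro a
    have h2 : orderOf a ∣ 3 ^ 2 := by rw [← hQ]; exact orderOf_dvd_natCard a
    obtain ⟨k, hk, hk2⟩ := (Nat.dvd_prime_pow Nat.prime_three).mp h2
    have hk3 : k ≠ 2 := by
      rintro rfl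
      apply h.no_nine hW hp5 (a : M)
      rw [Subgroup.orderOf_coe, hk2]; norm_num
    rw [← orderOf_dvd_iff_pow_eq_one, hk2]
    calc 3 ^ k ∣ 3 ^ 1 := pow_dvd_pow 3 (by omega)
      _ = 3 := by norm_num
  obtain ⟨a, ha⟩ := exists_notMem_finset ({1} : Finset Q) (by rw [hQ]; simp)
  obtain ⟨b, hb⟩ := exists_notMem_finset ({1, a, a * a} : Finset Q)
    (lt_of_le_of_lt Finset.card_le_three (by rw [hQ]; norm_num))
  simp only [Finset.mem_insert, Finset.mem_singleton, not_or] at ha hb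
  have ea := h.order_three (a : M) (fun h0 => ha (Subtype.ext h0))
    (congrArg Subtype.val (hord a))
  have eb := h.order_three (b : M) (fun h0 => hb.1 (Subtype.ext h0))
    (congrArg Subtype.val (hord b))
  have hab : σ a * σ b = σ b * σ a := by
    rw [← map_mul, ← map_mul]
    exact congrArg σ (congrArg Subtype.val (hcomm a b))
  have hb3 : σ b ^ 3 = 1 := by
    rw [← map_pow]
    have : (b : M) ^ 3 = 1 := congrArg Subtype.val (hord b)
    rw [this, map_one]
  have hprod : (σ a - σ b) * (σ a - σ b ^ 2) = 0 := by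
    have h2 : (σ a - σ b) * (σ a - σ b ^ 2) =
        σ a ^ 2 - σ a * (σ b ^ 2 + σ b) + σ b ^ 3 := by
      rw [sub_mul, mul_sub, mul_sub, ← hab, pow_succ' (σ b) 2, mul_add]
      rw [pow_two (σ a)]
      abel
    have h3 : σ b ^ 2 + σ b = -1 := by
      rw [eq_neg_iff_add_eq_zero]; exact eb
    rw [h2, h3, hb3, mul_neg, mul_one, sub_neg_eq_add]
    exact ea
  obtain ⟨w₀, hw₀⟩ := exists_ne (0 : W)
  by_cases hw : (σ a - σ b ^ 2) w₀ = 0
  · -- a = b^2
    have h2 : σ a w₀ = σ (b ^ 2 : M) w₀ := by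
      rw [map_pow]
      exact sub_eq_zero.mp hw
    have h3 : σ ((b ^ 2 : M)⁻¹ * a) w₀ = w₀ := by
      rw [map_mul]
      change σ (b ^ 2 : M)⁻¹ (σ a w₀) = w₀
      rw [h2]
      change (σ (b ^ 2 : M)⁻¹ * σ (b ^ 2 : M)) w₀ = w₀
      rw [← map_mul]; simp
    have h4 := h.semi _ w₀ hw₀ h3
    rw [inv_mul_eq_one] at h4
    have h5 : b ^ 2 = a := Subtype.ext (by simpa using h4)
    apply hb.2.2
    rw [← h5]
    calc b = b ^ 3 * b := by rw [hord b]; group
      _ = b ^ 2 * b ^ 2 := by group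
  · have h2 : σ a ((σ a - σ b ^ 2) w₀) = σ b ((σ a - σ b ^ 2) w₀) := by
      have h3 := LinearMap.congr_fun hprod w₀
      change (σ a - σ b) ((σ a - σ b ^ 2) w₀) = 0 at h3
      exact sub_eq_zero.mp h3
    have h3 : σ ((b : M)⁻¹ * a) ((σ a - σ b ^ 2) w₀) = (σ a - σ b ^ 2) w₀ := by
      rw [map_mul]
      change σ (b : M)⁻¹ (σ a ((σ a - σ b ^ 2) w₀)) = _
      rw [h2]
      change (σ (b : M)⁻¹ * σ (b : M)) ((σ a - σ b ^ 2) w₀) = _
      rw [← map_mul]; simp
    have h4 := h.semi _ _ hw h3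
    rw [inv_mul_eq_one] at h4
    exact hb.2.1 (Subtype.ext h4)

omit hW in
/-- Main result on regular groups with rational traces. -/
theorem main (hsm : ∀ q : ℕ, q.Prime → q ∣ Nat.card M → q ≤ 3) :
    p = 5 ∧ Nat.card M = 24 ∧ Nat.card W = 25 ∧
      ∀ R : Sylow 3 M, normalizer (R : Set M) ≤ centralizer (R : Set M) := by
  have hfd : FiniteDimensional (ZMod p) W := Module.Finite.of_finite
  obtain ⟨a, b, hab⟩ := smooth_three (n := Nat.card M) Nat.card_pos.ne' hsm
  have hcW : Nat.card W = p ^ finrank (ZMod p) W := by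
    have : Fintype W := Fintype.ofFinite W
    have := Module.card_eq_pow_finrank (K := ZMod p) (V := W)
    rw [← Nat.card_eq_fintype_card, ← Nat.card_eq_fintype_card, Nat.card_zmod] at this
    exact this
  have hcM := h.card_add_one
  have hW3 : finrank (ZMod p) W < 3 := by
    by_contra hge
    push Not at hge
    apply pow_sub_one_ne_smooth hp.out hp5 hge a b
    rw [← hcW, ← hcM, ← hab]; simp
  have hW0 : 0 < finrank (ZMod p) W := Module.finrank_pos
  have hW1 := h.finrank_ne_one hp5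
  have hW : finrank (ZMod p) W = 2 := by omega
  rw [hW] at hcW
  have ha : a ≤ 3 := by
    by_contra hlt
    apply h.not_sixteen_dvd hW hp5
    rw [hab]
    have : (16 : ℕ) = 2 ^ 4 := by norm_num
    rw [this]
    exact Dvd.dvd.mul_right (pow_dvd_pow 2 (by omega)) _
  have hb : b ≤ 1 := by
    by_contra hlt
    apply h.not_nine_dvd hW hp5
    rw [hab]
    have : (9 : ℕ) = 3 ^ 2 := by norm_num
    rw [this]
    exact Dvd.dvd.mul_left (pow_dvd_pow 3 (by omega)) _
  have h24 : Nat.card M ∣ 24 := by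
    rw [hab]
    have : (24 : ℕ) = 2 ^ 3 * 3 ^ 1 := by norm_num
    rw [this]
    exact mul_dvd_mul (pow_dvd_pow 2 ha) (pow_dvd_pow 3 hb)
  have h25 : p ^ 2 ≤ 25 := by
    have := Nat.le_of_dvd (by norm_num) h24
    omega
  have hp5' : p = 5 := by nlinarith
  subst hp5'
  have hM : Nat.card M = 24 := by omega
  refine ⟨rfl, hM, by rw [hcW]; norm_num, ?_⟩
  obtain ⟨z, hz⟩ := exists_prime_orderOf_dvd_card' (G := M) 2 (by rw [hM]; norm_num)
  have hz1 : z ≠ 1 := by
    intro h0; rw [h0, orderOf_one] at hz; omega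
  have hz2 : z * z = 1 := by rw [← pow_two, ← hz]; exact pow_orderOf_eq_one z
  refine normalizer_le_centralizer_of_24 hM z hz1 hz2 ?_ (h.no_twelve hW hp5)
  intro x hx
  by_cases hx1 : x = 1
  · exact Or.inl hx1
  · exact Or.inr (h.invol_unique hz1 hz2 hx1 hx)

end RegRep

end Cfsg.Agent.AH
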