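import Mathlib
import Cfsg.Agent.H535.AHDefs

/-!
Rationality of traces on the fixed space of a subgroup (for S4162).
-/

set_option autoImplicit false

namespace Cfsg.Agent.AH

open Subgroup

section Trace

variable {K : Type*} [Field K] {V : Type*} [AddCommGroup V] [Module K V]
variable {L : Type*} [Group L]

/-- The fixed space of a subgroup. -/
def fixSub (ρ : L →* Module.End K V) (X : Subgroup L) : Submodule K V where
  carrier := {v | ∀ x ∈ X, ρ x v = v}
  add_mem' := by
    intro a b ha hb x hx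
    rw [map_add, ha x hx, hb x hx]
  zero_mem' := by
    intro x _
    simp
  smul_mem' := by
    intro c a ha x hx
    rw [map_smul, ha x hx]

theorem mem_fixSub (ρ : L →* Module.End K V) (X : Subgroup L) (v : V) :
    v ∈ fixSub ρ X ↔ ∀ x ∈ X, ρ x v = v := Iff.rfl

theorem fixSub_stable (ρ : L →* Module.End K V) (X : Subgroup L) {y : L}
    (hy : y ∈ normalizer (X : Set L)) : ∀ v ∈ fixSub ρ X, ρ y v ∈ fixSub ρ X := by
  intro v hv x hx
  have h1 : y⁻¹ * x * y ∈ X := (Subgroup.mem_normalizer_iff''.mp hy x).mp hx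
  have h2 := hv _ h1
  calc ρ x (ρ y v) = ρ (x * y) v := by rw [map_mul]; rfl
    _ = ρ (y * (y⁻¹ * x * y)) v := by congr 2; group
    _ = ρ y (ρ (y⁻¹ * x * y) v) := by rw [map_mul]; rfl
    _ = ρ y v := by rw [h2]

/-- The operator induced on the fixed space by an element of the normalizer. -/
noncomputable def actFix (ρ : L →* Module.End K V) (X : Subgroup L) {y : L}
    (hy : y ∈ normalizer (X : Set L)) : Module.End K (fixSub ρ X) :=
  (ρ y).restrict (fixSub_stable ρ X hy)

@[simp] theorem actFix_apply (ρ : L →* Module.End K V) (X : Subgroup L) {y : L}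
    (hy : y ∈ normalizer (X : Set L)) (v : fixSub ρ X) :
    ((actFix ρ X hy v : fixSub ρ X) : V) = ρ y v := rfl

variable [Finite L] [FiniteDimensional K V]

theorem trace_actFix (ρ : L →* Module.End K V) (X : Subgroup L) {y : L}
    (hy : y ∈ normalizer (X : Set L)) (hX : (Nat.card X : K) ≠ 0) [Fintype X] :
    LinearMap.trace K _ (actFix ρ X hy) =
      (Nat.card X : K)⁻¹ * ∑ x : X, LinearMap.trace K V (ρ (y * (x : L))) := by
  classical
  set e : Module.End K V := (Nat.card X : K)⁻¹ • ∑ x : X, ρ (x : L) with he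
  have happ : ∀ v, e v = (Nat.card X : K)⁻¹ • ∑ x : X, ρ (x : L) v := by
    intro v
    rw [he, LinearMap.smul_apply, LinearMap.sum_apply]
  have hmem : ∀ v, e v ∈ fixSub ρ X := by
    intro v x hx
    rw [happ, map_smul, map_sum]
    congr 1
    refine Fintype.sum_equiv (Equiv.mulLeft (⟨x, hx⟩ : X)) _ _ ?_
    intro z
    change ρ x (ρ z v) = ρ (x * z) v
    rw [map_mul]; rfl
  have hfix : ∀ v ∈ fixSub ρ X, e v = v := by
    intro v hv
    rw [happ]
    have : ∑ x : X, ρ (x : L) v = (Nat.card X : K) • v := by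
      rw [Finset.sum_congr rfl (fun (x : X) _ => hv (x : L) x.2)]
      rw [Finset.sum_const, Finset.card_univ, Nat.card_eq_fintype_card, Nat.cast_smul_eq_nsmul]
    rw [this, smul_smul, inv_mul_cancel₀ hX, one_smul]
  set π : V →ₗ[K] fixSub ρ X := e.codRestrict (fixSub ρ X) hmem with hπ
  have h1 : actFix ρ X hy = π ∘ₗ ((ρ y) ∘ₗ (fixSub ρ X).subtype) := by
    ext v
    change ρ y v = e (ρ y v)
    rw [hfix _ (fixSub_stable ρ X hy v v.2)]
  have h2 : ((ρ y) ∘ₗ (fixSub ρ X).subtype) ∘ₗ π =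
      (Nat.card X : K)⁻¹ • ∑ x : X, ρ (y * (x : L)) := by
    ext v
    change ρ y (e v) = _
    rw [happ, map_smul, map_sum, LinearMap.smul_apply, LinearMap.sum_apply]
    congr 1
    refine Finset.sum_congr rfl fun x _ => ?_
    rw [map_mul]; rfl
  rw [h1, LinearMap.trace_comp_comm', h2, map_smul, map_sum, smul_eq_mul]

/-- Trace rationality on the fixed space of a subgroup. -/
theorem trace_actFix_pow (hL : IsRat L) (ρ : L →* Module.End K V) (X : Subgroup L) {y : L}
    (hy : y ∈ normalizer (X : Set L)) (hX : (Nat.card X : K) ≠ 0)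
    (j : ℕ) (hj : j.Coprime (Nat.card L)) :
    LinearMap.trace K _ (actFix ρ X (pow_mem hy j)) =
      LinearMap.trace K _ (actFix ρ X hy) := by
  classical
  have : Fintype X := Fintype.ofFinite X
  rw [trace_actFix ρ X _ hX, trace_actFix ρ X _ hX]
  congr 1
  have hpow : ∀ (x : L), x ∈ X → ∀ n : ℕ, (y ^ n)⁻¹ * (y * x) ^ n ∈ X := by
    intro x hx n
    induction n with
    | zero => simp [X.one_mem]
    | succ n ih =>
      have h1 : (y ^ (n + 1))⁻¹ * (y * x) ^ (n + 1) =
          (y⁻¹ * ((y ^ n)⁻¹ * (y * x) ^ n) * y) * x := by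
        rw [pow_succ, pow_succ]; group
      rw [h1]
      exact X.mul_mem ((Subgroup.mem_normalizer_iff''.mp hy _).mp ih) hx
  -- the bijection
  let f : X → X := fun x => ⟨(y ^ j)⁻¹ * (y * x) ^ j, hpow x x.2 j⟩
  have hf : Function.Injective f := by
    intro a b hab
    have h1 : (y ^ j)⁻¹ * (y * a) ^ j = (y ^ j)⁻¹ * (y * (b : L)) ^ j := congrArg Subtype.val hab
    have h2 := mul_left_cancel h1
    have h3 : (y * (a : L)) = y * b := by
      have := (powCoprime (hj.symm)).injective (a₁ := y * (a : L)) (a₂ := y * b) (by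
        simpa [powCoprime] using h2)
      exact this
    exact Subtype.ext (mul_left_cancel h3)
  have hfb : Function.Bijective f := Finite.injective_iff_bijective.mp hf
  symm
  refine Fintype.sum_bijective f hfb _ _ ?_
  intro x
  have h1 : y ^ j * ((f x : X) : L) = (y * (x : L)) ^ j := by
    change y ^ j * ((y ^ j)⁻¹ * (y * (x : L)) ^ j) = _
    group
  rw [h1]
  have hc : j.Coprime (orderOf (y * (x : L))) :=
    Nat.Coprime.coprime_dvd_right (orderOf_dvd_natCard _) hj
  obtain ⟨c, hc⟩ := isConj_iff.mp (hL (y * (x : L)) j hc)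
  rw [← hc]
  have h0 : ρ (c * (y * (x : L)) * c⁻¹) = ρ c * ρ (y * (x : L)) * ρ c⁻¹ := by
    rw [map_mul, map_mul ρ c]
  rw [h0]
  have h3 : ρ c * ρ (y * x) * ρ c⁻¹ = (ρ c ∘ₗ ρ (y * (x : L))) ∘ₗ ρ c⁻¹ := rfl
  rw [h3, LinearMap.trace_comp_comm']
  have h4 : ρ c⁻¹ ∘ₗ (ρ c ∘ₗ ρ (y * (x : L))) = ρ (y * (x : L)) := by
    change ρ c⁻¹ * (ρ c * ρ (y * x)) = _
    rw [← mul_assoc, ← map_mul]; simp
  rw [h4]

end Trace

end Cfsg.Agent.AH
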