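import Mathlib
import Cfsg.Agent.H535.AHTrace
import Cfsg.Agent.H535.AHRegular3

/-!
From a module of a rational group to the regular groups (for S4162).
-/

set_option autoImplicit false
set_option linter.unusedSectionVars false

namespace Cfsg.Agent.AH

open Subgroup

theorem exists_coprime_lift {a j b : ℕ} (ha : a ≠ 0) (hb : b ≠ 0) (hj : j.Coprime a) :
    ∃ j' : ℕ, j' ≡ j [MOD a] ∧ j'.Coprime b := by
  have : NeZero (a * b) := ⟨Nat.mul_ne_zero ha hb⟩
  obtain ⟨u, hu⟩ := ZMod.unitsMap_surjective (dvd_mul_right a b) (ZMod.unitOfCoprime j hj)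
  refine ⟨(u : ZMod (a * b)).val, ?_, ?_⟩
  · rw [← ZMod.natCast_eq_natCast_iff]
    have h1 := congrArg (fun v : (ZMod a)ˣ => (v : ZMod a)) hu
    simp only [ZMod.unitsMap_def, Units.coe_map, ZMod.coe_unitOfCoprime] at h1
    rw [← h1, ZMod.natCast_val]
    rfl
  · exact Nat.Coprime.coprime_dvd_right (dvd_mul_left b a) (ZMod.val_coe_unit_coprime u)

variable {G : Type*} [Group G] [Finite G] {p : ℕ} [hp : Fact p.Prime]
variable {V : Type*} [AddCommGroup V] [Module (ZMod p) V] [Finite V]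

theorem wrap (hrat : IsRat G) (hp5 : 5 ≤ p)
    (P : Subgroup G) [P.Normal] (hPi : ¬ p ∣ P.index)
    (ρ : G →* Module.End (ZMod p) V) (hρ : ∀ x ∈ P, ρ x = 1)
    (X N : Subgroup G) (hXN : X ≤ N) (hNX : N ≤ normalizer (X : Set G))
    (hne : ∃ w : V, w ≠ 0 ∧ ∀ x ∈ X, ρ x w = w)
    (hsemi : ∀ n ∈ N, ∀ w : V, w ≠ 0 → (∀ x ∈ X, ρ x w = w) → ρ n w = w → n ∈ X)
    (htrans : ∀ w w' : V, w ≠ 0 → (∀ x ∈ X, ρ x w = w) → w' ≠ 0 → (∀ x ∈ X, ρ x w' = w') →
      ∃ n ∈ N, ρ n w = w')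
    (hsm : ∀ q : ℕ, q.Prime → q ∣ X.relIndex N → q ≤ 3) :
    p = 5 ∧ X.relIndex N = 24 ∧ Nat.card {w : V // ∀ x ∈ X, ρ x w = w} = 25 ∧
      ∀ (_ : (X.subgroupOf N).Normal) (R : Sylow 3 (N ⧸ X.subgroupOf N)),
        normalizer (R : Set (N ⧸ X.subgroupOf N)) ≤ centralizer (R : Set (N ⧸ X.subgroupOf N)) := by
  classical
  have hfd : FiniteDimensional (ZMod p) V := Module.Finite.of_finite
  have hn : (X.subgroupOf N).Normal := by
    rw [normal_subgroupOf_iff hXN]
    intro x n hx hn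
    exact (mem_normalizer_iff.mp (hNX hn) x).mp hx
  let ρ' : (G ⧸ P) →* Module.End (ZMod p) V := QuotientGroup.lift P ρ hρ
  have hρ' : ∀ x : G, ρ' (QuotientGroup.mk' P x) = ρ x := fun x => rfl
  set X' := X.map (QuotientGroup.mk' P) with hX'
  have hmem : ∀ w : V, w ∈ fixSub ρ' X' ↔ ∀ x ∈ X, ρ x w = w := by
    intro w
    rw [mem_fixSub]
    constructor
    · intro h x hx
      rw [← hρ' x]
      exact h _ (mem_map_of_mem _ hx)
    · rintro h _ ⟨x, hx, rfl⟩
      rw [hρ' x]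
      exact h x hx
  have hy : ∀ n : N, QuotientGroup.mk' P (n : G) ∈ normalizer (X' : Set (G ⧸ P)) := by
    intro n
    have h1 := hNX n.2
    rw [mem_normalizer_iff] at h1 ⊢
    intro h
    constructor
    · rintro ⟨x, hx, rfl⟩
      exact ⟨n * x * (n : G)⁻¹, (h1 x).mp hx, by simp⟩
    · rintro ⟨x, hx, hxe⟩
      refine ⟨(n : G)⁻¹ * x * n, ?_, ?_⟩
      · rw [SetLike.mem_coe, h1]
        have : (n : G) * ((n : G)⁻¹ * x * n) * (n : G)⁻¹ = x := by group
        rw [this]; exact hx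
      · rw [map_mul, map_mul, hxe]; simp only [map_inv]; group
  let σ₀ : N →* Module.End (ZMod p) (fixSub ρ' X') :=
    { toFun := fun n => actFix ρ' X' (hy n)
      map_one' := by
        ext w
        simp
      map_mul' := by
        intro a b
        ext w
        simp only [actFix_apply, Module.End.mul_apply, Subgroup.coe_mul, map_mul] }
  have hσ₀ : ∀ x ∈ X.subgroupOf N, σ₀ x = 1 := by
    intro x hx
    ext w
    exact (hmem w).mp w.2 x hx
  let σ : (N ⧸ X.subgroupOf N) →* Module.End (ZMod p) (fixSub ρ' X') :=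
    QuotientGroup.lift (X.subgroupOf N) σ₀ hσ₀
  have hσ : ∀ (n : N) (w : fixSub ρ' X'), ((σ (n : N ⧸ X.subgroupOf N) w : fixSub ρ' X') : V) =
      ρ n w := fun n w => rfl
  have hcardL : ¬ p ∣ Nat.card (G ⧸ P) := by
    rw [← index_eq_card]; exact hPi
  have hcardX' : (Nat.card X' : ZMod p) ≠ 0 := by
    intro h0
    rw [ZMod.natCast_eq_zero_iff] at h0
    exact hcardL (h0.trans (card_subgroup_dvd_card X'))
  have hLrat : IsRat (G ⧸ P) := hrat.quotient P
  have hreg : RegRep σ := by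
    refine ⟨?_, ?_, ?_⟩
    · intro m w hw hmw
      obtain ⟨n, rfl⟩ := QuotientGroup.mk_surjective m
      have h1 : ρ n (w : V) = w := by
        rw [← hσ n w, hmw]
      rw [QuotientGroup.eq_one_iff, mem_subgroupOf]
      exact hsemi n n.2 w (fun h0 => hw (Subtype.ext h0)) ((hmem w).mp w.2) h1
    · intro w w' hw hw'
      obtain ⟨n, hn, hnw⟩ := htrans w w' (fun h0 => hw (Subtype.ext h0)) ((hmem w).mp w.2)
        (fun h0 => hw' (Subtype.ext h0)) ((hmem w').mp w'.2)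
      exact ⟨((⟨n, hn⟩ : N) : N ⧸ X.subgroupOf N), Subtype.ext hnw⟩
    · intro m j hj
      obtain ⟨j', hj', hj'L⟩ := exists_coprime_lift (orderOf_pos m).ne'
        (Nat.card_pos (α := G ⧸ P)).ne' hj
      have h1 : m ^ j = m ^ j' := (pow_eq_pow_iff_modEq.mpr hj').symm
      rw [h1]
      obtain ⟨n, rfl⟩ := QuotientGroup.mk_surjective m
      exact trace_actFix_pow hLrat ρ' X' (hy n) hcardX' j' hj'L
  have hnt : Nontrivial (fixSub ρ' X') := by
    obtain ⟨w, hw, hwX⟩ := hne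
    exact ⟨⟨w, (hmem w).mpr hwX⟩, 0, fun h0 => hw (congrArg Subtype.val h0)⟩
  obtain ⟨e1, e2, e3, e4⟩ := hreg.main hp5 (by
    intro q hq hqd
    apply hsm q hq
    rw [relIndex, index_eq_card]; exact hqd)
  refine ⟨e1, ?_, ?_, fun _ R => e4 R⟩
  · rw [relIndex, index_eq_card]; exact e2
  · rw [← e3]
    refine Nat.card_congr (Equiv.subtypeEquivRight ?_)
    intro w
    exact (hmem w).symm

end Cfsg.Agent.AH
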