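import Mathlib
import Cfsg.Agent.H535.AHWrap
import Cfsg.Agent.H535.AHLayer

/-!
Lemma R (for S4162): regular sections in groups with distinct class sizes.
-/

set_option autoImplicit false
set_option linter.unusedSectionVars false

namespace Cfsg.Agent.AH

open Subgroup

variable {G : Type*} [Group G] [Finite G] {p : ℕ} [hp : Fact p.Prime]

theorem exists_rep_aux {Q V : Type*} [Group Q] [AddCommGroup V] [Module (ZMod p) V]
    (act : Q → V →+ V) (h1 : ∀ w, act 1 w = w) (hmul : ∀ x y w, act (x * y) w = act x (act y w)) :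
    ∃ ρ : Q →* Module.End (ZMod p) V, ∀ x w, ρ x w = act x w := by
  let F : Q → Module.End (ZMod p) V := fun x => AddMonoidHom.toZModLinearMap p (act x)
  have hF : ∀ (x : Q) (w : V), F x w = act x w := fun x w => rfl
  refine ⟨⟨⟨F, ?_⟩, ?_⟩, fun x w => rfl⟩
  · apply LinearMap.ext
    intro w
    rw [hF, h1]
    rfl
  · intro x y
    apply LinearMap.ext
    intro w
    change act (x * y) w = act x (act y w)
    exact hmul x y w

/-- The conjugation action on a normal elementary abelian subgroup, as a linear representation. -/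
theorem exists_rep.{u} {Q : Type u} [Group Q] [Finite Q] (T : Subgroup Q) [T.Normal]
    (hc : ∀ a ∈ T, ∀ b ∈ T, a * b = b * a) (hT : ∀ a ∈ T, a ^ p = 1) :
    ∃ (V : Type u) (_ : AddCommGroup V) (_ : Module (ZMod p) V) (_ : Finite V) (φ : V ≃ T)
      (ρ : Q →* Module.End (ZMod p) V), (∀ w : V, w = 0 ↔ (φ w : Q) = 1) ∧
      ∀ (x : Q) (w : V), ((φ (ρ x w) : T) : Q) = x * (φ w : Q) * x⁻¹ := by
  let i1 : CommGroup T := { (inferInstance : Group T) with
    mul_comm := fun a b => Subtype.ext (hc a a.2 b b.2) }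
  let i0 : AddCommGroup (Additive T) := inferInstance
  let i2 : Module (ZMod p) (Additive T) := AddCommGroup.zmodModule (n := p) (by
    intro w
    have : (w.toMul) ^ p = 1 := Subtype.ext (hT _ w.toMul.2)
    exact this)
  obtain ⟨ρ, hρ⟩ := exists_rep_aux (p := p) (V := Additive T)
    (fun x : Q => MonoidHom.toAdditive (MulAut.conjNormal x : MulAut T).toMonoidHom)
    (by
      intro w
      have h1 : (MonoidHom.toAdditive (MulAut.conjNormal (1 : Q) : MulAut T).toMonoidHom) w =
            Additive.ofMul ((MulAut.conjNormal (1 : Q) : MulAut T) w.toMul) := rfl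
      rw [h1, map_one, MulAut.one_apply]
      rfl)
    (by
      intro x y w
      have h1 : ∀ (z : Q) (w' : Additive T),
        (MonoidHom.toAdditive (MulAut.conjNormal z : MulAut T).toMonoidHom) w' =
            Additive.ofMul ((MulAut.conjNormal z : MulAut T) w'.toMul) := fun _ _ => rfl
      rw [h1, map_mul, MulAut.mul_apply]
      rfl)
  refine ⟨Additive T, inferInstance, i2, inferInstanceAs (Finite T), Additive.toMul, ρ, ?_, ?_⟩
  · intro w
    constructor
    · rintro rfl
      rfl
    · intro h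
      exact Additive.toMul.injective (Subtype.ext h)
  · intro x w
    rw [hρ]
    rfl

/-- Uniform exponent extracting the `p'`-part. -/
theorem exists_exponent (P : Subgroup G) (hP : IsPGroup p P) {g : G}
    (hg : (orderOf g).Coprime p) :
    ∃ k : ℕ, ∀ v ∈ P, g * v = v * g → (g * v) ^ k = g := by
  have hcop : (orderOf g).Coprime (Nat.card P) := by
    obtain ⟨n, hn⟩ := IsPGroup.iff_card.mp hP
    rw [hn]
    exact Nat.Coprime.pow_right n hg
  obtain ⟨k, hk1, hk2⟩ := Nat.chineseRemainder hcop 1 0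
  refine ⟨k, fun v hv hgv => ?_⟩
  have h1 : (g * v) ^ k = g ^ k * v ^ k := (show Commute g v from hgv).mul_pow k
  have h2 : g ^ k = g := by
    conv_rhs => rw [← pow_one g]
    exact pow_eq_pow_iff_modEq.mpr hk1
  have h3 : v ^ k = 1 := by
    rw [← orderOf_dvd_iff_pow_eq_one]
    exact (Subgroup.orderOf_dvd_natCard P hv).trans ((Nat.modEq_zero_iff_dvd).mp hk2)
  rw [h1, h2, h3, mul_one]

theorem centralizer_mul_eq {g v : G} {k : ℕ} (hk : (g * v) ^ k = g) :
    centralizer ({g * v} : Set G) = centralizer ({g} : Set G) ⊓ centralizer ({v} : Set G) := by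
  apply le_antisymm
  · intro z hz
    rw [mem_centralizer_singleton_iff] at hz
    have h1 : z * g = g * z := by
      have h2 : Commute z ((g * v) ^ k) := Commute.pow_right (show Commute z (g * v) from hz) k
      rw [hk] at h2
      exact h2
    rw [mem_inf, mem_centralizer_singleton_iff, mem_centralizer_singleton_iff]
    refine ⟨h1, ?_⟩
    have h2 : g * (z * v) = g * (v * z) := by
      calc g * (z * v) = z * g * v := by rw [h1]; group
        _ = z * (g * v) := by group
        _ = g * (v * z) := by rw [hz]; group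
    exact mul_left_cancel h2
  · intro z hz
    rw [mem_inf, mem_centralizer_singleton_iff, mem_centralizer_singleton_iff] at hz
    rw [mem_centralizer_singleton_iff]
    calc z * (g * v) = z * g * v := by group
      _ = g * (z * v) := by rw [hz.1]; group
      _ = g * v * z := by rw [hz.2]; group

/-- A prime divisor of `|N : X|` gives an element of prime power order in `N` outside `X`. -/
theorem exists_pElement_notMem {q : ℕ} [hq : Fact q.Prime] {X N : Subgroup G}
    (h : q ∣ X.relIndex N) : ∃ n ∈ N, n ∉ X ∧ ∃ Q : Subgroup G, IsPGroup q Q ∧ n ∈ Q := by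
  by_contra hcon
  push Not at hcon
  obtain ⟨Q₀⟩ : Nonempty (Sylow q N) := inferInstance
  have h1 : (Q₀ : Subgroup N) ≤ X.subgroupOf N := by
    intro n hn
    rw [mem_subgroupOf]
    by_contra hnX
    refine hcon n n.2 hnX ((Q₀ : Subgroup N).map N.subtype) (Q₀.isPGroup'.map _) ?_
    exact ⟨n, hn, rfl⟩
  have h2 : (X.subgroupOf N).index ∣ (Q₀ : Subgroup N).index := index_dvd_of_le h1
  exact Q₀.not_dvd_index (h.trans h2)

/-- **Lemma R**. -/
theorem lemmaR (hAH : IsAH G) (hp5 : 5 ≤ p) (P : Sylow p G) [hPn : (P : Subgroup G).Normal]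
    (hsyl : ∀ (q : ℕ) [Fact q.Prime], 5 ≤ q → ∀ Q : Sylow q G, (Q : Subgroup G).Normal)
    (g : G) (hg : (orderOf g).Coprime p)
    (hY : (P : Subgroup G) ⊓ centralizer ({g} : Set G) ≠ ⊥) :
    p = 5 ∧ ∃ U X N : Subgroup G, N = centralizer ({g} : Set G) ⊓ normalizer (X : Set G) ∧
      Nat.card U = 25 ∧
      U ≤ (P : Subgroup G) ⊓ centralizer ({g} : Set G) ∧
      (∀ u ∈ U, ∀ y ∈ (P : Subgroup G) ⊓ centralizer ({g} : Set G), u * y = y * u) ∧
      (∀ u ∈ U, u ≠ 1 → centralizer ({g * u} : Set G) = X) ∧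
      X ≤ N ∧ X.relIndex N = 24 ∧
      ∀ (_ : (X.subgroupOf N).Normal) (R : Sylow 3 (N ⧸ X.subgroupOf N)),
        normalizer (R : Set (N ⧸ X.subgroupOf N)) ≤ centralizer (R : Set (N ⧸ X.subgroupOf N)) := by
  classical
  have hP : IsPGroup p (P : Subgroup G) := P.isPGroup'
  obtain ⟨B, A, hBn, hAn, hBA, hAP, hBg, hAg, hcomm, hexp⟩ :=
    exists_layer (P : Subgroup G) hP g hY
  have hBP : IsPGroup p B := hP.to_le (hBA.trans hAP)
  obtain ⟨k, hk⟩ := exists_exponent (P : Subgroup G) hP hg
  -- elements of `B` commuting with `g` are trivial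
  have hB1 : ∀ b ∈ B, b * g = g * b → b = 1 := by
    intro b hb hbg
    have : b ∈ B ⊓ centralizer ({g} : Set G) :=
      ⟨hb, mem_centralizer_singleton_iff.mpr hbg⟩
    rw [hBg] at this
    exact mem_bot.mp this
  -- the choice of v
  obtain ⟨v, ⟨hvA, hvg, hv1⟩, hvmax⟩ := Set.exists_max_image
    {v : G | v ∈ A ∧ v * g = g * v ∧ v ≠ 1} (fun v => cent (g * v)) (Set.toFinite _) (by
      by_contra hcon
      apply hAg
      rw [eq_bot_iff]
      intro a ha
      rw [mem_inf, mem_centralizer_singleton_iff] at ha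
      by_contra ha1
      exact hcon ⟨a, ha.1, ha.2, fun h => ha1 (mem_bot.mpr h)⟩)
  set X := centralizer ({g * v} : Set G) with hX
  have hvk := hk v (hAP hvA) hvg.symm
  have hXe : X = centralizer ({g} : Set G) ⊓ centralizer ({v} : Set G) := centralizer_mul_eq hvk
  have hXg : ∀ x ∈ X, x * g = g * x := by
    intro x hx
    rw [hXe, mem_inf, mem_centralizer_singleton_iff] at hx
    exact hx.1
  have hXv : ∀ x ∈ X, x * v = v * x := by
    intro x hx
    rw [hXe, mem_inf, mem_centralizer_singleton_iff, mem_centralizer_singleton_iff] at hx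
    exact hx.2
  have hmemX : ∀ x, x * g = g * x → x * v = v * x → x ∈ X := by
    intro x h1 h2
    rw [hXe, mem_inf, mem_centralizer_singleton_iff, mem_centralizer_singleton_iff]
    exact ⟨h1, h2⟩
  have hgX : g ∈ X := hmemX g rfl hvg.symm
  set N := centralizer ({g} : Set G) ⊓ normalizer (X : Set G) with hN
  have hXN : X ≤ N := by
    intro x hx
    exact ⟨mem_centralizer_singleton_iff.mpr (hXg x hx), le_normalizer hx⟩
  -- F2
  have hF2 : ∀ u ∈ A, u ≠ 1 → (∀ x ∈ X, x * u = u * x) →
      centralizer ({g * u} : Set G) = X ∧ ∃ n ∈ N, n * v * n⁻¹ = u := by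
    intro u hu hu1 hux
    have hug := (hux g hgX).symm
    have huk := hk u (hAP hu) hug.symm
    have hle : X ≤ centralizer ({g * u} : Set G) := by
      rw [centralizer_mul_eq huk]
      intro x hx
      exact ⟨mem_centralizer_singleton_iff.mpr (hXg x hx),
        mem_centralizer_singleton_iff.mpr (hux x hx)⟩
    have hcard : Nat.card (centralizer ({g * u} : Set G)) ≤ Nat.card X :=
      hvmax u ⟨hu, hug, hu1⟩
    have heq : X = centralizer ({g * u} : Set G) := eq_of_le_of_card_ge hle hcard
    refine ⟨heq.symm, ?_⟩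
    have hcent : cent (g * v) = cent (g * u) := by
      unfold cent
      rw [← heq]
    obtain ⟨n, hn⟩ := isConj_iff.mp (isConj_of_cent_eq hAH hcent)
    have hng : n * g * n⁻¹ = g := by
      have h1 : (n * (g * v) * n⁻¹) ^ k = n * (g * v) ^ k * n⁻¹ := conj_pow
      rw [hn, huk, hvk] at h1
      exact h1.symm
    have hnv : n * v * n⁻¹ = u := by
      have h1 : n * (g * v) * n⁻¹ = (n * g * n⁻¹) * (n * v * n⁻¹) := by group
      rw [h1, hng] at hn
      exact mul_left_cancel hn
    refine ⟨n, mem_inf.mpr ⟨mem_centralizer_singleton_iff.mpr (mul_inv_eq_iff_eq_mul.mp hng), ?_⟩,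
      hnv⟩
    rw [mem_normalizer_iff]
    intro h
    have h1 : n * h * n⁻¹ ∈ X ↔ n * h * n⁻¹ ∈ centralizer ({g * u} : Set G) := by rw [← heq]
    rw [h1, hX, mem_centralizer_singleton_iff,
      mem_centralizer_singleton_iff, ← hn]
    constructor
    · intro h2
      calc n * h * n⁻¹ * (n * (g * v) * n⁻¹) = n * (h * (g * v)) * n⁻¹ := by group
        _ = n * (g * v * h) * n⁻¹ := by rw [h2]
        _ = n * (g * v) * n⁻¹ * (n * h * n⁻¹) := by group
    · intro h2
      have h3 : n * (h * (g * v)) * n⁻¹ = n * (g * v * h) * n⁻¹ := by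
        calc n * (h * (g * v)) * n⁻¹ = n * h * n⁻¹ * (n * (g * v) * n⁻¹) := by group
          _ = n * (g * v) * n⁻¹ * (n * h * n⁻¹) := h2
          _ = n * (g * v * h) * n⁻¹ := by group
      exact mul_left_cancel (mul_right_cancel h3)
  -- the module
  let f := QuotientGroup.mk' B
  have hf : Function.Surjective f := QuotientGroup.mk'_surjective B
  have hf1 : ∀ x : G, f x = 1 ↔ x ∈ B := fun x => QuotientGroup.eq_one_iff x
  have hTn : (A.map f).Normal := hAn.map f hf
  have hTc : ∀ a ∈ A.map f, ∀ b ∈ A.map f, a * b = b * a := by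
    rintro _ ⟨a, ha, rfl⟩ _ ⟨b, hb, rfl⟩
    have h1 := (hf1 _).mpr (hcomm a ha b (hAP hb))
    rw [map_mul, map_mul, map_mul, map_inv, map_inv] at h1
    exact mul_inv_eq_iff_eq_mul.mp (mul_inv_eq_one.mp h1)
  have hTp : ∀ a ∈ A.map f, a ^ p = 1 := by
    rintro _ ⟨a, ha, rfl⟩
    rw [← map_pow]
    exact (hf1 _).mpr (hexp a ha)
  obtain ⟨V, i1, i2, i3, φ, ρ, hρ0, hρ⟩ := exists_rep (p := p) (A.map f) hTc hTp
  -- fixed vectors
  have hfix : ∀ (x : G) (w : V), (ρ.comp f) x w = w ↔
      f x * (φ w : G ⧸ B) * (f x)⁻¹ = φ w := by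
    intro x w
    rw [← hρ (f x) w]
    constructor
    · intro h
      rw [MonoidHom.comp_apply] at h
      rw [h]
    · intro h
      exact φ.injective (Subtype.ext h)
  -- lifting fixed vectors
  have hlift : ∀ w : V, (∀ x ∈ X, (ρ.comp f) x w = w) →
      ∃ u ∈ A, f u = (φ w : G ⧸ B) ∧ ∀ x ∈ X, x * u = u * x := by
    intro w hw
    obtain ⟨a, ha, haw⟩ := (φ w).2
    have h1 := (hfix g w).mp (hw g hgX)
    have h2 : a⁻¹ * (g * a * g⁻¹) ∈ B := by
      rw [← hf1, map_mul, map_mul, map_mul, map_inv, map_inv, haw, h1]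
      group
    obtain ⟨b, hb, hgb⟩ := exists_commute_in_coset B hBP hg h2
    have hfu : f (a * b) = (φ w : G ⧸ B) := by
      rw [map_mul, (hf1 b).mpr hb, mul_one, haw]
    refine ⟨a * b, A.mul_mem ha (hBA hb), hfu, ?_⟩
    intro x hx
    have h3 := (hfix x w).mp (hw x hx)
    have h4 : (a * b)⁻¹ * (x * (a * b) * x⁻¹) ∈ B := by
      have e : f ((a * b)⁻¹ * (x * (a * b) * x⁻¹)) =
          (f (a * b))⁻¹ * (f x * f (a * b) * (f x)⁻¹) := by simp only [map_mul, map_inv]
      rw [← hf1, e, hfu, h3]
      group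
    have h5 := hB1 _ h4 (by
      have e1 : Commute x g := hXg x hx
      have e2 : Commute (a * b) g := hgb.symm
      exact (e2.inv_left.mul_left ((e1.mul_left e2).mul_left e1.inv_left)))
    rw [inv_mul_eq_one] at h5
    exact (mul_inv_eq_iff_eq_mul.mp h5.symm)
  have hinj : ∀ a ∈ A, a * g = g * a → f a = 1 → a = 1 := by
    intro a _ hag hfa
    exact hB1 a ((hf1 a).mp hfa) hag
  have hXNn : N ≤ normalizer (X : Set G) := inf_le_right
  have hNg : ∀ n ∈ N, n * g = g * n := fun n hn => mem_centralizer_singleton_iff.mp hn.1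
  have hXN' : ∀ n ∈ N, n * v = v * n → n ∈ X := fun n hn h => hmemX n (hNg n hn) h
  obtain ⟨h5, h24, h25, hR⟩ := wrap (V := V) hAH.isRat hp5 (P : Subgroup G)
    P.not_dvd_index (ρ.comp f) (by
      -- P acts trivially
      intro x hx
      apply LinearMap.ext
      intro w
      change (ρ.comp f) x w = w
      rw [hfix]
      obtain ⟨a, ha, haw⟩ := (φ w).2
      have h1 := (hf1 _).mpr (hcomm a ha x hx)
      rw [map_mul, map_mul, map_mul, map_inv, map_inv] at h1
      rw [← haw, mul_inv_eq_iff_eq_mul]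
      exact (mul_inv_eq_iff_eq_mul.mp (mul_inv_eq_one.mp h1)).symm)
    X N hXN hXNn (by
      -- nonzero fixed vector
      refine ⟨φ.symm ⟨f v, mem_map_of_mem f hvA⟩, ?_, ?_⟩
      · intro h0
        rw [hρ0, Equiv.apply_symm_apply] at h0
        exact hv1 (hinj v hvA hvg h0)
      · intro x hx
        rw [hfix, Equiv.apply_symm_apply]
        rw [← map_mul, hXv x hx, map_mul, mul_inv_cancel_right])
    (by
      -- semiregularity
      intro n hn w hw hwX hnw
      obtain ⟨u, hu, huw, hux⟩ := hlift w hwX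
      have hu1 : u ≠ 1 := by
        rintro rfl
        apply hw
        rw [hρ0, ← huw, map_one]
      obtain ⟨hcu, -⟩ := hF2 u hu hu1 hux
      have hug := (hux g hgX).symm
      have huk := hk u (hAP hu) hug.symm
      have h1 := (hfix n w).mp hnw
      have h2 : u⁻¹ * (n * u * n⁻¹) ∈ B := by
        rw [← hf1, map_mul, map_inv, map_mul, map_mul, map_inv, huw, h1]
        group
      have h3 := hB1 _ h2 (by
        have e1 : Commute n g := hNg n hn
        have e2 : Commute u g := hug
        exact (e2.inv_left.mul_left ((e1.mul_left e2).mul_left e1.inv_left)))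
      rw [inv_mul_eq_one] at h3
      have h4 : n * u = u * n := mul_inv_eq_iff_eq_mul.mp h3.symm
      rw [← hcu, centralizer_mul_eq huk, mem_inf, mem_centralizer_singleton_iff,
        mem_centralizer_singleton_iff]
      exact ⟨hNg n hn, h4⟩)
    (by
      -- transitivity
      have key : ∀ w : V, w ≠ 0 → (∀ x ∈ X, (ρ.comp f) x w = w) →
          ∃ n ∈ N, f (n * v * n⁻¹) = (φ w : G ⧸ B) := by
        intro w hw hwX
        obtain ⟨u, hu, huw, hux⟩ := hlift w hwX
        have hu1 : u ≠ 1 := by
          rintro rfl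
          apply hw
          rw [hρ0, ← huw, map_one]
        obtain ⟨-, n, hn, hnv⟩ := hF2 u hu hu1 hux
        exact ⟨n, hn, by rw [hnv, huw]⟩
      intro w w' hw hwX hw' hwX'
      obtain ⟨n, hn, hnw⟩ := key w hw hwX
      obtain ⟨n', hn', hnw'⟩ := key w' hw' hwX'
      refine ⟨n' * n⁻¹, N.mul_mem hn' (N.inv_mem hn), ?_⟩
      apply φ.injective
      apply Subtype.ext
      rw [MonoidHom.comp_apply, hρ, ← hnw, ← hnw']
      simp only [map_mul, map_inv]
      group)
    (by
      -- primes
      intro q hq hqd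
      by_contra hq3
      have hq5 : 5 ≤ q := by
        by_contra hlt
        have : q = 4 := by omega
        subst this
        exact absurd hq (by decide)
      have hqf : Fact q.Prime := ⟨hq⟩
      obtain ⟨n, hn, hnX, Q₁, hQ₁, hnQ₁⟩ := exists_pElement_notMem hqd
      obtain ⟨Q, hQ⟩ := hQ₁.exists_le_sylow
      have hQn : (Q : Subgroup G).Normal := hsyl q hq5 Q
      have hnQ : n ∈ (Q : Subgroup G) := hQ hnQ₁
      apply hnX
      refine hXN' n hn ?_
      by_cases hqp : q = p
      · subst hqp
        have hnP : n ∈ (P : Subgroup G) := by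
          have : Subsingleton (Sylow q G) := by
            have := Sylow.unique_of_normal P hPn
            infer_instance
          rw [Subsingleton.elim P Q]
          exact hnQ
        have h1 := hB1 _ (hcomm v hvA n hnP) (by
          have e1 : Commute n g := hNg n hn
          have e2 : Commute v g := hvg
          exact ((e2.mul_left e1).mul_left e2.inv_left).mul_left e1.inv_left)
        exact (mul_inv_eq_iff_eq_mul.mp (mul_inv_eq_one.mp h1)).symm
      · have hd : Disjoint (Q : Subgroup G) (P : Subgroup G) :=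
          IsPGroup.disjoint_of_ne q p hqp _ _ Q.isPGroup' P.isPGroup'
        exact Subgroup.commute_of_normal_of_disjoint _ _ hQn hPn hd n v hnQ (hAP hvA))
  refine ⟨h5, A ⊓ centralizer (X : Set G), X, N, rfl, ?_, ?_, ?_, ?_, hXN, h24, hR⟩
  · rw [← h25]
    refine Nat.card_eq_of_bijective (fun u => ⟨φ.symm ⟨f u, mem_map_of_mem f u.2.1⟩, ?_⟩)
      ⟨?_, ?_⟩
    · intro x hx
      rw [hfix, Equiv.apply_symm_apply]
      have h1 := mem_centralizer_iff.mp u.2.2 x hx
      rw [← map_mul, h1, map_mul, mul_inv_cancel_right]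
    · intro a b hab
      have h1 : f a = f b := by
        have := congrArg (fun z => ((φ (Subtype.val z) : A.map f) : G ⧸ B)) hab
        simpa only [Equiv.apply_symm_apply] using this
      have h2 : ((a : G)⁻¹ * b) = 1 := by
        refine hinj _ (A.mul_mem (A.inv_mem a.2.1) b.2.1) ?_ ?_
        · have e1 := (mem_centralizer_iff.mp a.2.2 g hgX)
          have e2 := (mem_centralizer_iff.mp b.2.2 g hgX)
          have e1' : Commute (a : G) g := e1.symm
          have e2' : Commute (b : G) g := e2.symm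
          exact e1'.inv_left.mul_left e2'
        · rw [map_mul, map_inv, h1, inv_mul_cancel]
      exact Subtype.ext (inv_mul_eq_one.mp h2)
    · rintro ⟨w, hw⟩
      obtain ⟨u, hu, huw, hux⟩ := hlift w hw
      refine ⟨⟨u, hu, mem_centralizer_iff.mpr hux⟩, ?_⟩
      apply Subtype.ext
      apply φ.injective
      apply Subtype.ext
      rw [Equiv.apply_symm_apply]
      exact huw
  · intro u hu
    exact ⟨hAP hu.1, mem_centralizer_singleton_iff.mpr (mem_centralizer_iff.mp hu.2 g hgX).symm⟩
  · intro u hu y hy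
    have h1 := hB1 _ (hcomm u hu.1 y hy.1) (by
      have e1 : Commute y g := mem_centralizer_singleton_iff.mp hy.2
      have e2 : Commute u g := (mem_centralizer_iff.mp hu.2 g hgX).symm
      exact ((e2.mul_left e1).mul_left e2.inv_left).mul_left e1.inv_left)
    exact mul_inv_eq_iff_eq_mul.mp (mul_inv_eq_one.mp h1)
  · intro u hu hu1
    exact (hF2 u hu.1 hu1 (mem_centralizer_iff.mp hu.2)).1

end Cfsg.Agent.AH
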