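import Mathlib

/-!
`p ^ n - 1` is not of the form `2 ^ a * 3 ^ b` for a prime `p ≥ 5` and `n ≥ 3`.
-/

set_option autoImplicit false

namespace Cfsg.Agent.AH

theorem odd_geom {p l : ℕ} (hp : p % 2 = 1) (hl : l % 2 = 1) :
    (∑ i ∈ Finset.range l, p ^ i) % 2 = 1 := by
  have h : (∑ i ∈ Finset.range l, p ^ i) ≡ ∑ i ∈ Finset.range l, 1 ^ i [MOD 2] := by
    apply Nat.ModEq.sum
    intro i _
    exact Nat.ModEq.pow i hp
  simp only [one_pow, Finset.sum_const, Finset.card_range, smul_eq_mul, mul_one] at h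
  exact h.trans (show l ≡ 1 [MOD 2] from hl)

theorem geom_mod_three_one {p l : ℕ} (hp : p % 3 = 1) :
    (∑ i ∈ Finset.range l, p ^ i) ≡ l [MOD 3] := by
  have h : (∑ i ∈ Finset.range l, p ^ i) ≡ ∑ i ∈ Finset.range l, 1 ^ i [MOD 3] := by
    apply Nat.ModEq.sum
    intro i _
    exact Nat.ModEq.pow i hp
  simpa using h

theorem geom_mod_three_two {p l : ℕ} (hp : p % 3 = 2) (hl : l % 2 = 1) :
    (∑ i ∈ Finset.range l, p ^ i) ≡ 1 [MOD 3] := by
  obtain ⟨k, rfl⟩ : ∃ k, l = 2 * k + 1 := ⟨l / 2, by omega⟩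
  induction k with
  | zero => simp; rfl
  | succ k ih =>
    have h1 : 2 * (k + 1) + 1 = (2 * k + 1) + 1 + 1 := by ring
    rw [h1, Finset.sum_range_succ, Finset.sum_range_succ, add_assoc]
    have h2 : p ^ (2 * k + 1) + p ^ (2 * k + 1 + 1) ≡ 0 [MOD 3] := by
      have : p ^ (2 * k + 1) + p ^ (2 * k + 1 + 1) = p ^ (2 * k + 1) * (1 + p) := by ring
      rw [this]
      have h3 : (1 + p) ≡ 0 [MOD 3] := by
        change (1 + p) % 3 = 0 % 3
        omega
      have := (Nat.ModEq.refl (p ^ (2 * k + 1)) (n := 3)).mul h3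
      simpa using this
    exact (ih (by omega)).add h2

theorem pow_sub_one_ne_smooth {p n : ℕ} (hp : p.Prime) (hp5 : 5 ≤ p) (hn : 3 ≤ n) (a b : ℕ) :
    p ^ n - 1 ≠ 2 ^ a * 3 ^ b := by
  intro h
  have hp2 : p % 2 = 1 := by
    rcases hp.eq_two_or_odd with h | h
    · omega
    · exact h
  have hp3 : p % 3 = 1 ∨ p % 3 = 2 := by
    have : p % 3 ≠ 0 := by
      intro h3
      have := (Nat.prime_dvd_prime_iff_eq Nat.prime_three hp).mp (Nat.dvd_of_mod_eq_zero h3)
      omega
    omega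
  rcases Nat.eq_two_pow_or_exists_odd_prime_and_dvd n with ⟨k, hk⟩ | ⟨l, hl, hln, hodd⟩
  · -- 4 ∣ n
    have h4 : 4 ∣ n := by
      have hk2 : 2 ≤ k := by
        by_contra hlt
        have : k = 0 ∨ k = 1 := by omega
        rcases this with rfl | rfl <;> simp at hk <;> omega
      rw [hk]
      exact pow_dvd_pow 2 hk2
    have h5 : p ^ 4 - 1 ∣ p ^ n - 1 := by
      obtain ⟨m, rfl⟩ := h4
      rw [pow_mul]
      simpa using Nat.sub_dvd_pow_sub_pow (p ^ 4) 1 m
    have h6 : p ^ 2 + 1 ∣ p ^ 4 - 1 := by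
      refine ⟨p ^ 2 - 1, ?_⟩
      have : p ^ 4 = (p ^ 2) ^ 2 := by ring
      rw [this, ← Nat.sq_sub_sq (p ^ 2) 1]
    have h7 : p ^ 2 + 1 ∣ 2 ^ a * 3 ^ b := h ▸ (h6.trans h5)
    have h8 : Nat.Coprime (p ^ 2 + 1) (3 ^ b) := by
      apply Nat.Coprime.pow_right
      rw [Nat.coprime_comm, Nat.Prime.coprime_iff_not_dvd Nat.prime_three]
      intro h9
      have h10 := Nat.mod_eq_zero_of_dvd h9
      rcases hp3 with h3 | h3 <;> simp [Nat.add_mod, Nat.pow_mod, h3] at h10
    have h9 : p ^ 2 + 1 ∣ 2 ^ a := Nat.Coprime.dvd_of_dvd_mul_right h8 h7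
    obtain ⟨c, -, hc⟩ := (Nat.dvd_prime_pow Nat.prime_two).mp h9
    have h10 : (p ^ 2 + 1) % 4 = 2 := by
      have : p % 4 = 1 ∨ p % 4 = 3 := by omega
      rcases this with h | h <;> simp [Nat.add_mod, Nat.pow_mod, h]
    rcases Nat.lt_or_ge c 2 with hlt | hge
    · have : c = 0 ∨ c = 1 := by omega
      rcases this with rfl | rfl
      · simp at hc; omega
      · have : 25 ≤ p ^ 2 := by nlinarith
        omega
    · obtain ⟨d, rfl⟩ := Nat.exists_eq_add_of_le hge
      rw [hc, pow_add] at h10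
      omega
  · have hodd' : l % 2 = 1 := Nat.odd_iff.mp hodd
    set q := ∑ i ∈ Finset.range l, p ^ i with hq
    have hl3 : 3 ≤ l := by
      have := hl.two_le
      omega
    have hq1 : (p - 1) * q = p ^ l - 1 := by
      have h1 := mul_geom_sum ((p : ℤ)) l
      have h2 : ((p - 1 : ℕ) : ℤ) = (p : ℤ) - 1 := by
        rw [Nat.cast_sub (by omega)]; simp
      have h3 : ((p ^ l - 1 : ℕ) : ℤ) = (p : ℤ) ^ l - 1 := by
        rw [Nat.cast_sub (Nat.one_le_pow _ _ (by omega))]; simp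
      have h4 : (((p - 1) * q : ℕ) : ℤ) = ((p ^ l - 1 : ℕ) : ℤ) := by
        rw [h3, Nat.cast_mul, h2, hq]
        push_cast
        exact h1
      exact_mod_cast h4
    have hq2 : q ∣ p ^ n - 1 := by
      have h5 : p ^ l - 1 ∣ p ^ n - 1 := by
        obtain ⟨m, rfl⟩ := hln
        rw [pow_mul]
        simpa using Nat.sub_dvd_pow_sub_pow (p ^ l) 1 m
      exact (Dvd.intro_left _ hq1).trans h5
    have hqbig : p < q := by
      have h1 : p ^ 0 + p ^ 1 + p ^ 2 ≤ q := by
        have h2 : ∑ i ∈ Finset.range 3, p ^ i ≤ q :=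
          Finset.sum_le_sum_of_subset (Finset.range_subset_range.mpr hl3)
        simpa [Finset.sum_range_succ] using h2
      have h3 : 0 < p ^ 2 := by positivity
      simp only [pow_zero, pow_one] at h1
      omega
    have hq3 : q ∣ 3 ^ b := by
      have h1 : q ∣ 2 ^ a * 3 ^ b := h ▸ hq2
      have h2 : Nat.Coprime q (2 ^ a) := by
        apply Nat.Coprime.pow_right
        rw [Nat.coprime_comm, Nat.Prime.coprime_iff_not_dvd Nat.prime_two]
        intro h3
        have h4 := odd_geom hp2 hodd'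
        rw [← hq] at h4
        omega
      exact Nat.Coprime.dvd_of_dvd_mul_left h2 h1
    obtain ⟨c, -, hc⟩ := (Nat.dvd_prime_pow Nat.prime_three).mp hq3
    have hc0 : c ≠ 0 := by
      rintro rfl
      simp at hc
      omega
    have h3q : q % 3 = 0 := by
      obtain ⟨d, rfl⟩ := Nat.exists_eq_succ_of_ne_zero hc0
      rw [hc, pow_succ]
      simp
    rcases hp3 with h3 | h3
    · have h4 : q ≡ l [MOD 3] := geom_mod_three_one h3
      have h5 : l % 3 = 0 := by
        rw [← h4]; exact h3q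
      have h6 : l = 3 := ((Nat.prime_dvd_prime_iff_eq Nat.prime_three hl).mp
        (Nat.dvd_of_mod_eq_zero h5)).symm
      have h7 : q % 9 = 3 := by
        have h8 : q = p ^ 2 + p + 1 := by
          rw [hq, h6]; simp [Finset.sum_range_succ]; ring
        have h9 : p % 9 = 1 ∨ p % 9 = 4 ∨ p % 9 = 7 := by omega
        rw [h8]
        rcases h9 with h | h | h <;> simp [Nat.add_mod, Nat.pow_mod, h]
      rcases Nat.lt_or_ge c 2 with hlt | hge
      · have : c = 1 := by omega
        subst this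
        simp at hc
        omega
      · obtain ⟨d, rfl⟩ := Nat.exists_eq_add_of_le hge
        rw [hc, pow_add] at h7
        omega
    · have h4 : q ≡ 1 [MOD 3] := geom_mod_three_two h3 hodd'
      have h5 : q % 3 = 1 := h4
      omega

end Cfsg.Agent.AH
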