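import Cfsg.Agent.NotCT.Two
import Cfsg.Agent.Lib.Zsigmondy

/-!
Orders of groups of Lie type in characteristic 2 dividing `|GL(n,2)|` and divisible by the prime `2 ^ n - 1`.
-/

set_option autoImplicit false

namespace Cfsg.Agent.H535.Mers

open Cfsg Cfsg.Agent.NotCT

/-- the order of `GL(n,2)` -/
def G (n : ℕ) : ℕ := 2 ^ (n * (n - 1) / 2) * pA 2 (n - 1)

theorem dvd_pA {r q : ℕ} (hr : r.Prime) : ∀ m : ℕ, r ∣ pA q m → ∃ i, 2 ≤ i ∧ i ≤ m + 1 ∧ r ∣ q ^ i - 1 := by
  intro m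
  induction m with
  | zero =>
    intro h
    rw [pA, Nat.dvd_one] at h
    exact absurd h hr.one_lt.ne'
  | succ m ih =>
    intro h
    rw [pA, hr.dvd_mul] at h
    rcases h with h | h
    · obtain ⟨i, h1, h2, h3⟩ := ih h
      exact ⟨i, h1, by omega, h3⟩
    · exact ⟨m + 2, by omega, by omega, h⟩

theorem mem_pA {q : ℕ} : ∀ m i : ℕ, 2 ≤ i → i ≤ m + 1 → q ^ i - 1 ∣ pA q m := by
  intro m
  induction m with
  | zero => intro i h1 h2; omega
  | succ m ih =>
    intro i h1 h2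
    rw [pA]
    by_cases h : i = m + 2
    · rw [h]; exact dvd_mul_left _ _
    · exact (ih i h1 (by omega)).trans (dvd_mul_right _ _)

theorem dvd_pC {r q : ℕ} (hr : r.Prime) : ∀ m : ℕ, r ∣ pC q m → ∃ i, 1 ≤ i ∧ i ≤ m ∧ r ∣ q ^ (2 * i) - 1 := by
  intro m
  induction m with
  | zero =>
    intro h
    rw [pC, Nat.dvd_one] at h
    exact absurd h hr.one_lt.ne'
  | succ m ih =>
    intro h
    rw [pC, hr.dvd_mul] at h
    rcases h with h | h
    · obtain ⟨i, h1, h2, h3⟩ := ih h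
      exact ⟨i, h1, by omega, h3⟩
    · exact ⟨m + 1, by omega, by omega, h⟩

theorem mem_pC {q : ℕ} : ∀ m i : ℕ, 1 ≤ i → i ≤ m → q ^ (2 * i) - 1 ∣ pC q m := by
  intro m
  induction m with
  | zero => intro i h1 h2; omega
  | succ m ih =>
    intro i h1 h2
    rw [pC]
    by_cases h : i = m + 1
    · rw [h]; exact dvd_mul_left _ _
    · exact (ih i h1 (by omega)).trans (dvd_mul_right _ _)

theorem dvd_pU {r q : ℕ} (hr : r.Prime) : ∀ m : ℕ, r ∣ pU q m →
    ∃ i, 2 ≤ i ∧ i ≤ m + 1 ∧ ((i % 2 = 0 ∧ r ∣ q ^ i - 1) ∨ (i % 2 = 1 ∧ r ∣ q ^ i + 1)) := by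
  intro m
  induction m with
  | zero =>
    intro h
    rw [pU, Nat.dvd_one] at h
    exact absurd h hr.one_lt.ne'
  | succ m ih =>
    intro h
    rw [pU, hr.dvd_mul] at h
    rcases h with h | h
    · obtain ⟨i, h1, h2, h3⟩ := ih h
      exact ⟨i, h1, by omega, h3⟩
    · refine ⟨m + 2, by omega, by omega, ?_⟩
      by_cases hm : m % 2 = 0
      · rw [if_pos hm] at h
        exact Or.inl ⟨by omega, h⟩
      · rw [if_neg hm] at h
        exact Or.inr ⟨by omega, h⟩

theorem mem_pU_odd {q : ℕ} : ∀ m i : ℕ, 2 ≤ i → i ≤ m + 1 → i % 2 = 1 → q ^ i + 1 ∣ pU q m := by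
  intro m
  induction m with
  | zero => intro i h1 h2; omega
  | succ m ih =>
    intro i h1 h2 h3
    rw [pU]
    by_cases h : i = m + 2
    · rw [if_neg (by omega), h]; exact dvd_mul_left _ _
    · exact (ih i h1 (by omega) h3).trans (dvd_mul_right _ _)

theorem add_dvd (q i : ℕ) : q ^ i + 1 ∣ q ^ (2 * i) - 1 := by
  have h : q ^ (2 * i) - 1 = (q ^ i + 1) * (q ^ i - 1) := by
    rw [mul_comm 2 i, pow_mul]
    have := Nat.sq_sub_sq (q ^ i) 1
    rw [one_pow] at this
    exact this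
  rw [h]
  exact dvd_mul_right _ _

theorem td4_dvd (q : ℕ) (hq : 1 ≤ q) : q ^ 12 - 1 = (q ^ 4 - 1) * (q ^ 8 + q ^ 4 + 1) := by
  obtain ⟨c, hc⟩ := Nat.exists_eq_add_of_le' (Nat.one_le_pow 4 q hq)
  have h1 : q ^ 8 = (c + 1) ^ 2 := by rw [← hc]; ring
  have h2 : q ^ 12 = (c + 1) ^ 3 := by rw [← hc]; ring
  rw [h2, h1, hc, Nat.add_sub_cancel]
  have h3 : (c + 1) ^ 3 = c * ((c + 1) ^ 2 + (c + 1) + 1) + 1 := by ring
  rw [h3, Nat.add_sub_cancel]

/-- a Mersenne number dividing `(2 ^ k) ^ i - 1` -/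
theorem le_of_dvd_sub {n k i : ℕ} (hk : 1 ≤ k) (hi : 1 ≤ i) (h : 2 ^ n - 1 ∣ (2 ^ k) ^ i - 1) : n ≤ k * i := by
  rw [← pow_mul] at h
  have hki : 1 ≤ k * i := Nat.mul_pos hk hi
  have h1 : 2 ^ 1 ≤ 2 ^ (k * i) := Nat.pow_le_pow_right (by norm_num) hki
  have h2 := Nat.le_of_dvd (by omega) h
  have h3 : 2 ^ n ≤ 2 ^ (k * i) := by
    have := Nat.one_le_two_pow (n := n)
    omega
  exact (Nat.pow_le_pow_iff_right (by norm_num)).1 h3

theorem le_of_dvd_add {n k i : ℕ} (hk : 1 ≤ k) (hi : 1 ≤ i) (h : 2 ^ n - 1 ∣ (2 ^ k) ^ i + 1) :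
    n ≤ k * (2 * i) :=
  le_of_dvd_sub hk (by omega) (h.trans (add_dvd _ _))

/-- the largest exponent -/
def ε : Typ → ℕ
  | .L n => n
  | .S m => 2 * m
  | .U n => if n % 2 = 1 then 2 * n else 2 * (n - 1)
  | .OO m => 2 * m
  | .OP m => 2 * (m - 1)
  | .OM m => 2 * m
  | .G2 => 6 | .F4 => 12 | .E6 => 12 | .E7 => 18 | .E8 => 30 | .TE6 => 18 | .TD4 => 12 | .SZ => 4 | .TF4 => 12
  | .RG => 6

theorem le_eps {n k : ℕ} {t : Typ} (hv : t.Valid 2 k) (hr : (2 ^ n - 1).Prime)
    (h : 2 ^ n - 1 ∣ t.P (2 ^ k)) : n ≤ k * ε t := by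
  have hk := one_le_k hv
  have mono : ∀ {a b : ℕ}, n ≤ k * a → a ≤ b → n ≤ k * b := fun h1 h2 => h1.trans (Nat.mul_le_mul_left _ h2)
  have s : ∀ {i b : ℕ}, 1 ≤ i → i ≤ b → 2 ^ n - 1 ∣ (2 ^ k) ^ i - 1 → n ≤ k * b := fun h1 h2 h3 =>
    mono (le_of_dvd_sub hk h1 h3) h2
  have a : ∀ {i b : ℕ}, 1 ≤ i → 2 * i ≤ b → 2 ^ n - 1 ∣ (2 ^ k) ^ i + 1 → n ≤ k * b := fun h1 h2 h3 =>
    mono (le_of_dvd_add hk h1 h3) h2
  have s1 : ∀ {b : ℕ}, 1 ≤ b → 2 ^ n - 1 ∣ 2 ^ k - 1 → n ≤ k * b := fun h2 h3 =>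
    s (i := 1) le_rfl h2 (by rwa [pow_one])
  have h8 : 2 ^ n - 1 ∣ (2 ^ k) ^ 8 + (2 ^ k) ^ 4 + 1 → n ≤ k * 12 := fun h3 =>
    s (i := 12) (by norm_num) le_rfl (by rw [td4_dvd _ Nat.one_le_two_pow]; exact dvd_mul_of_dvd_right h3 _)
  cases t with
  | L m =>
    obtain ⟨i, h1, h2, h3⟩ := dvd_pA hr _ h
    have := hv.2.1
    exact s (by omega) (show i ≤ m by omega) h3
  | S m =>
    obtain ⟨i, h1, h2, h3⟩ := dvd_pC hr _ h
    exact s (by omega) (show 2 * i ≤ 2 * m by omega) h3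
  | U m =>
    obtain ⟨i, h1, h2, h3⟩ := dvd_pU hr _ h
    have h4 := hv.2.1
    show n ≤ k * (if m % 2 = 1 then 2 * m else 2 * (m - 1))
    rcases h3 with ⟨h3, h5⟩ | ⟨h3, h5⟩
    · split_ifs
      · exact s (by omega) (by omega) h5
      · exact s (by omega) (by omega) h5
    · split_ifs
      · exact a (by omega) (by omega) h5
      · exact a (by omega) (by omega) h5
  | OO m => exact absurd rfl hv.2.2
  | OP m =>
    have hm := hv.2
    rw [Typ.P, hr.dvd_mul] at h
    rcases h with h | h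
    · exact s (by omega) (show m ≤ 2 * (m - 1) by omega) h
    · obtain ⟨i, h1, h2, h3⟩ := dvd_pC hr _ h
      exact s (by omega) (show 2 * i ≤ 2 * (m - 1) by omega) h3
  | OM m =>
    have hm := hv.2
    rw [Typ.P, hr.dvd_mul] at h
    rcases h with h | h
    · exact a (by omega) (show 2 * m ≤ 2 * m by omega) h
    · obtain ⟨i, h1, h2, h3⟩ := dvd_pC hr _ h
      exact s (by omega) (show 2 * i ≤ 2 * m by omega) h3
  | G2 =>
    rw [Typ.P, hr.dvd_mul] at h
    rcases h with h | h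
    · exact s (by norm_num) (by norm_num [ε]) h
    · exact s (by norm_num) (by norm_num [ε]) h
  | F4 =>
    simp only [Typ.P, hr.dvd_mul] at h
    rcases h with ((h | h) | h) | h <;> exact s (by norm_num) (by norm_num [ε]) h
  | E6 =>
    simp only [Typ.P, hr.dvd_mul] at h
    rcases h with ((((h | h) | h) | h) | h) | h <;> exact s (by norm_num) (by norm_num [ε]) h
  | E7 =>
    simp only [Typ.P, hr.dvd_mul] at h
    rcases h with (((((h | h) | h) | h) | h) | h) | h <;> exact s (by norm_num) (by norm_num [ε]) h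
  | E8 =>
    simp only [Typ.P, hr.dvd_mul] at h
    rcases h with ((((((h | h) | h) | h) | h) | h) | h) | h <;> exact s (by norm_num) (by norm_num [ε]) h
  | TE6 =>
    simp only [Typ.P, hr.dvd_mul] at h
    rcases h with ((((h | h) | h) | h) | h) | h <;>
      first | exact s (by norm_num) (by norm_num [ε]) h | exact a (by norm_num) (by norm_num [ε]) h
  | TD4 =>
    simp only [Typ.P, hr.dvd_mul] at h
    rcases h with (h | h) | h
    · exact s (by norm_num) (by norm_num [ε]) h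
    · exact s (by norm_num) (by norm_num [ε]) h
    · exact h8 h
  | SZ =>
    simp only [Typ.P, hr.dvd_mul] at h
    rcases h with h | h
    · exact s1 (by norm_num [ε]) h
    · exact a (by norm_num) (by norm_num [ε]) h
  | TF4 =>
    simp only [Typ.P, hr.dvd_mul] at h
    rcases h with ((h | h) | h) | h
    · exact s1 (by norm_num [ε]) h
    · exact a (by norm_num) (by norm_num [ε]) h
    · exact s (by norm_num) (by norm_num [ε]) h
    · exact a (by norm_num) (by norm_num [ε]) h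
  | RG => exact absurd hv.1 (by norm_num)

/-- primes dividing `|GL(n,2)|` -/
theorem dvd_G {s n : ℕ} (hs : s.Prime) (hs2 : s ≠ 2) (h : s ∣ G n) : ∃ i, 2 ≤ i ∧ i ≤ n - 1 + 1 ∧ s ∣ 2 ^ i - 1 := by
  rw [G, hs.dvd_mul] at h
  rcases h with h | h
  · have := (Nat.prime_dvd_prime_iff_eq hs Nat.prime_two).1 (hs.dvd_of_dvd_pow h)
    exact absurd this hs2
  · exact dvd_pA hs _ h

/-- A prime with `s ∣ 2 ^ m - 1 ↔ k * ε t ∣ m` divides the numerator. -/
theorem prim_dvd_P {s k : ℕ} {t : Typ} (hv : t.Valid 2 k) (hs : s.Prime)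
    (hm : ∀ m, s ∣ 2 ^ m - 1 ↔ k * ε t ∣ m) : s ∣ t.P (2 ^ k) := by
  have hk := one_le_k hv
  have m1 : ∀ {i : ℕ}, ε t = i → s ∣ (2 ^ k) ^ i - 1 := fun {i} h => by
    rw [← pow_mul, hm, h]
  have m2 : ∀ {i : ℕ}, 1 ≤ i → ε t = 2 * i → s ∣ (2 ^ k) ^ i + 1 := fun {i} hi h => by
    have h1 : s ∣ ((2 ^ k) ^ i + 1) * ((2 ^ k) ^ i - 1) := by
      have h2 := m1 h
      rw [mul_comm 2 i, pow_mul] at h2
      have h3 := Nat.sq_sub_sq ((2 ^ k) ^ i) 1
      rw [one_pow] at h3
      rwa [h3] at h2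
    rcases (hs.dvd_mul).1 h1 with h2 | h2
    · exact h2
    · exfalso
      rw [← pow_mul, hm, h] at h2
      have h3 := Nat.le_of_dvd (Nat.mul_pos hk hi) h2
      have h4 : k * i < k * (2 * i) := Nat.mul_lt_mul_of_pos_left (by omega) hk
      omega
  cases t with
  | L m =>
    have := hv.2.1
    exact (m1 rfl).trans (mem_pA (m - 1) m (by omega) (by omega))
  | S m =>
    have := hv.2.1
    exact (m1 rfl).trans (mem_pC _ m (by omega) (by omega))
  | U m =>
    have h4 := hv.2.1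
    by_cases h : m % 2 = 1
    · have h5 : ε (.U m) = 2 * m := by
        show (if m % 2 = 1 then 2 * m else 2 * (m - 1)) = _
        rw [if_pos h]
      exact (m2 (by omega) h5).trans (mem_pU_odd _ _ (by omega) (by omega) h)
    · have h5 : ε (.U m) = 2 * (m - 1) := by
        show (if m % 2 = 1 then 2 * m else 2 * (m - 1)) = _
        rw [if_neg h]
      exact (m2 (by omega) h5).trans (mem_pU_odd _ _ (by omega) (by omega) (by omega))
  | OO m => exact absurd rfl hv.2.2
  | OP m =>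
    have h4 := hv.2
    exact ((m1 rfl).trans (mem_pC _ (m - 1) (by omega) (by omega))).trans (dvd_mul_left _ _)
  | OM m =>
    have h4 := hv.2
    exact (m2 (by omega) rfl).trans (dvd_mul_right _ _)
  | G2 => exact (m1 rfl).trans (dvd_mul_left _ _)
  | F4 => exact (m1 rfl).trans (dvd_mul_left _ _)
  | E6 => exact (m1 rfl).trans (dvd_mul_left _ _)
  | E7 => exact (m1 rfl).trans (dvd_mul_left _ _)
  | E8 => exact (m1 rfl).trans (dvd_mul_left _ _)
  | TE6 => exact (m2 (i := 9) (by norm_num) rfl).trans ((dvd_mul_left _ _).trans (dvd_mul_right _ _))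
  | TD4 =>
    have h1 : s ∣ (2 ^ k) ^ 12 - 1 := m1 rfl
    rw [td4_dvd _ Nat.one_le_two_pow, hs.dvd_mul] at h1
    rcases h1 with h1 | h1
    · exfalso
      rw [← pow_mul, hm] at h1
      have h3 := Nat.le_of_dvd (by omega) h1
      have h4 : ε .TD4 = 12 := rfl
      rw [h4] at h3
      omega
    · exact h1.trans (dvd_mul_left _ _)
  | SZ => exact (m2 (i := 2) (by norm_num) rfl).trans (dvd_mul_left _ _)
  | TF4 => exact (m2 (i := 6) (by norm_num) rfl).trans (dvd_mul_left _ _)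
  | RG => exact absurd hv.1 (by norm_num)

/-- ... and not the denominator. -/
theorem prim_not_dvd_D {s k : ℕ} {t : Typ} (hv : t.Valid 2 k) (hs : s.Prime)
    (hm : ∀ m, s ∣ 2 ^ m - 1 ↔ k * ε t ∣ m) : ¬ s ∣ t.D (2 ^ k) := by
  have hk := one_le_k hv
  have s2 : s ≠ 2 := by
    rintro rfl
    have h1 : 2 ∣ 2 ^ (k * ε t) - 1 := (hm _).2 dvd_rfl
    have h0 : k * ε t ≠ 0 := by
      intro h0
      have := (hm 1)
      rw [h0] at this
      have h2 := (hm 2)
      rw [h0] at h2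
      have h3 : (2 : ℕ) ∣ 2 ^ 0 - 1 := by norm_num
      -- `2 ∣ 2 ^ m - 1` only for `m = 0`; the valid types have positive exponent
      have h4 : 1 ≤ ε t := by
        cases t with
        | L m => have := hv.2.1; show 1 ≤ m; omega
        | S m => have := hv.2.1; show 1 ≤ 2 * m; omega
        | U m =>
          have := hv.2.1
          show 1 ≤ (if m % 2 = 1 then 2 * m else 2 * (m - 1))
          split_ifs <;> omega
        | OO m => have := hv.2.1; show 1 ≤ 2 * m; omega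
        | OP m => have := hv.2; show 1 ≤ 2 * (m - 1); omega
        | OM m => have := hv.2; show 1 ≤ 2 * m; omega
        | _ => simp [ε]
      have := Nat.mul_pos hk h4
      omega
    have h5 : 2 ∣ 2 ^ (k * ε t) := dvd_pow_self 2 h0
    have h6 := Nat.one_le_two_pow (n := k * ε t)
    omega
  have c1 : 2 ≤ ε t → ¬ s ∣ 2 ^ k - 1 := fun he h => by
    rw [hm] at h
    have h3 := Nat.le_of_dvd hk h
    nlinarith
  have c2 : 3 ≤ ε t → ¬ s ∣ 2 ^ k + 1 := fun he h => by
    have h1 := h.trans (by simpa using add_dvd (2 ^ k) 1 : 2 ^ k + 1 ∣ (2 ^ k) ^ 2 - 1)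
    rw [← pow_mul, hm] at h1
    have h3 := Nat.le_of_dvd (by omega) h1
    nlinarith
  have c4 : ¬ s ∣ 4 := fun h => s2 ((Nat.prime_dvd_prime_iff_eq hs Nat.prime_two).1
    (hs.dvd_of_dvd_pow (show s ∣ 2 ^ 2 by exact h)))
  have c22 : ¬ s ∣ 2 := fun h => s2 ((Nat.prime_dvd_prime_iff_eq hs Nat.prime_two).1 h)
  cases t with
  | L m => exact fun h => c1 hv.2.1 (h.trans (Nat.gcd_dvd_right _ _))
  | S m => exact fun h => c22 (h.trans (Nat.gcd_dvd_left _ _))
  | U m =>
    refine fun h => c2 ?_ (h.trans (Nat.gcd_dvd_right _ _))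
    have := hv.2.1
    show 3 ≤ (if m % 2 = 1 then 2 * m else 2 * (m - 1))
    split_ifs <;> omega
  | OO m => exact absurd rfl hv.2.2
  | OP m => exact fun h => c4 (h.trans (Nat.gcd_dvd_left _ _))
  | OM m => exact fun h => c4 (h.trans (Nat.gcd_dvd_left _ _))
  | G2 => exact fun h => hs.one_lt.ne' (Nat.dvd_one.1 h)
  | F4 => exact fun h => hs.one_lt.ne' (Nat.dvd_one.1 h)
  | E6 => exact fun h => c1 (by norm_num [ε]) (h.trans (Nat.gcd_dvd_right _ _))
  | E7 => exact fun h => c1 (by norm_num [ε]) (h.trans (Nat.gcd_dvd_right _ _))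
  | E8 => exact fun h => hs.one_lt.ne' (Nat.dvd_one.1 h)
  | TE6 => exact fun h => c2 (by norm_num [ε]) (h.trans (Nat.gcd_dvd_right _ _))
  | TD4 => exact fun h => hs.one_lt.ne' (Nat.dvd_one.1 h)
  | SZ => exact fun h => hs.one_lt.ne' (Nat.dvd_one.1 h)
  | TF4 => exact fun h => hs.one_lt.ne' (Nat.dvd_one.1 h)
  | RG => exact absurd hv.1 (by norm_num)

/-- a prime dividing the numerator but not the denominator divides the order -/
theorem dvd_card_of_P {s p k : ℕ} {t : Typ} {X : Type*} (h : HasOrd t (p ^ k) X) (hs : s.Prime)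
    (h1 : s ∣ t.P (p ^ k)) (h2 : ¬ s ∣ t.D (p ^ k)) : s ∣ Nat.card X := by
  have h3 : t.D (p ^ k) * Nat.card X = (p ^ k) ^ t.N * t.P (p ^ k) := h
  have h4 : s ∣ t.D (p ^ k) * Nat.card X := h3 ▸ dvd_mul_of_dvd_right h1 _
  exact ((hs.dvd_mul).1 h4).resolve_left h2

/-- a prime `≠ p` dividing the order divides the numerator -/
theorem dvd_P_of_card {s p k : ℕ} {t : Typ} {X : Type*} (h : HasOrd t (p ^ k) X) (hp : p.Prime) (hs : s.Prime)
    (hsp : s ≠ p) (h1 : s ∣ Nat.card X) : s ∣ t.P (p ^ k) := by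
  have h3 : t.D (p ^ k) * Nat.card X = (p ^ k) ^ t.N * t.P (p ^ k) := h
  have h4 : s ∣ (p ^ k) ^ t.N * t.P (p ^ k) := h3 ▸ dvd_mul_of_dvd_right h1 _
  refine ((hs.dvd_mul).1 h4).resolve_left fun h5 => ?_
  rw [← pow_mul] at h5
  exact hsp ((Nat.prime_dvd_prime_iff_eq hs hp).1 (hs.dvd_of_dvd_pow h5))

/-- In characteristic two: either the exponent is `6`, or `k * ε t ≤ n`. -/
theorem eps_le {n k : ℕ} {t : Typ} {X : Type*} (hv : t.Valid 2 k) (h : HasOrd t (2 ^ k) X)
    (hE : 3 ≤ k * ε t) (h6 : k * ε t ≠ 6) (hn : 1 ≤ n) (hG : Nat.card X ∣ G n) : k * ε t ≤ n := by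
  obtain ⟨s, hs, hm, -, -⟩ := Lib.Zsigmondy.exists_primitive (a := 2) (n := k * ε t) le_rfl (by omega)
    (fun h2 => by omega) (fun h => h6 h.2)
  have h1 := dvd_card_of_P h hs (prim_dvd_P hv hs hm) (prim_not_dvd_D hv hs hm)
  have hs2 : s ≠ 2 := by
    rintro rfl
    have h1 : 2 ∣ 2 ^ (k * ε t) - 1 := (hm _).2 dvd_rfl
    have h5 : 2 ∣ 2 ^ (k * ε t) := dvd_pow_self 2 (by omega)
    have h6 := Nat.one_le_two_pow (n := k * ε t)
    omega
  obtain ⟨i, hi1, hi2, hi3⟩ := dvd_G hs hs2 (h1.trans hG)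
  rw [hm] at hi3
  have := Nat.le_of_dvd (by omega) hi3
  omega

theorem G_three : G 3 = 168 := by decide +kernel

theorem G_five : G 5 = 9999360 := by decide +kernel

theorem no_small {n c d : ℕ} {X : Type*} (hn : n = 3 ∨ n = 5) (hd : 2 ^ n - 1 ∣ Nat.card X) (hG : Nat.card X ∣ G n)
    (hc : c * Nat.card X = d) (hc0 : 0 < c) (h3 : ¬ d ∣ c * 168) (h5 : ¬ (c * 31 ∣ d ∧ d ∣ c * 9999360)) : False := by
  rcases hn with rfl | rfl
  · rw [G_three] at hG
    exact h3 (hc ▸ Nat.mul_dvd_mul_left c hG)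
  · rw [G_five] at hG
    have h1 : (31 : ℕ) ∣ Nat.card X := hd
    exact h5 ⟨hc ▸ Nat.mul_dvd_mul_left c h1, hc ▸ Nat.mul_dvd_mul_left c hG⟩

/-- **Characteristic two.** -/
theorem char_two {n k : ℕ} {t : Typ} {X : Type*} (hv : t.Valid 2 k) (h : HasOrd t (2 ^ k) X) (hn : n.Prime)
    (hn2 : n ≠ 2) (hr : (2 ^ n - 1).Prime) (hd : 2 ^ n - 1 ∣ Nat.card X) (hG : Nat.card X ∣ G n) :
    Nat.card X = G n := by
  have hn3 : 3 ≤ n := by
    have := hn.two_le
    omega
  have hodd : n % 2 = 1 := by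
    rcases hn.eq_two_or_odd with h | h
    · exact absurd h hn2
    · exact h
  have hk := one_le_k hv
  have hr2 : 2 ^ n - 1 ≠ 2 := by
    have h5 : 2 ∣ 2 ^ n := dvd_pow_self 2 (by omega)
    have h6 := Nat.one_le_two_pow (n := n)
    omega
  have h1 := dvd_P_of_card h Nat.prime_two hr hr2 hd
  have h2 := le_eps hv hr h1
  have h6 : k * ε t = 6 → n = 3 ∨ n = 5 := by
    intro h6
    have : n ≤ 6 := h6 ▸ h2
    have h4 : n ≠ 4 := by rintro rfl; omega
    have h6' : n ≠ 6 := by rintro rfl; omega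
    omega
  have hev : ∀ {b : ℕ}, ε t = 2 * b → k * ε t ≠ 6 → False := by
    intro b hb h7
    have h8 := eps_le hv h (by omega) h7 (by omega) hG
    have h9 : n = k * (2 * b) := by rw [← hb]; omega
    have h10 : 2 ∣ n := ⟨k * b, by rw [h9]; ring⟩
    omega
  cases t with
  | L m =>
    have hm := hv.2.1
    have e1 : ε (.L m) = m := rfl
    by_cases h7 : k * m = 6
    · exfalso
      have hm6 : m ∣ 6 := ⟨k, by rw [← h7]; ring⟩
      have hm' : m ≤ 6 := Nat.le_of_dvd (by norm_num) hm6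
      have h6' := h6 (by rw [e1]; exact h7)
      have hord : Nat.gcd m (2 ^ k - 1) * Nat.card X = (2 ^ k) ^ (m * (m - 1) / 2) * pA (2 ^ k) (m - 1) := h
      interval_cases m
      · obtain rfl : k = 3 := by omega
        exact no_small h6' hd hG hord (by decide) (by decide +kernel) (by decide +kernel)
      · obtain rfl : k = 2 := by omega
        exact no_small h6' hd hG hord (by decide) (by decide +kernel) (by decide +kernel)
      · omega
      · omega
      · obtain rfl : k = 1 := by omega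
        exact no_small h6' hd hG hord (by decide) (by decide +kernel) (by decide +kernel)
    · have h8 := eps_le hv h (by omega) (by rw [e1]; exact h7) (by omega) hG
      rw [e1] at h8 h2
      have h9 : n = k * m := by omega
      have h10 : k ∣ n := ⟨m, h9⟩
      rcases (Nat.dvd_prime hn).1 h10 with rfl | rfl
      · rw [one_mul] at h9
        subst h9
        have hord : Nat.gcd n (2 ^ 1 - 1) * Nat.card X = (2 ^ 1) ^ (n * (n - 1) / 2) * pA (2 ^ 1) (n - 1) := h
        have e2 : Nat.gcd n (2 ^ 1 - 1) = 1 := by norm_num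
        rw [e2, one_mul, pow_one] at hord
        exact hord
      · exfalso
        have : k * 1 < k * m := Nat.mul_lt_mul_of_pos_left (by omega) (by omega)
        omega
  | S m =>
    exfalso
    have hm := hv.2.1
    have e1 : ε (.S m) = 2 * m := rfl
    by_cases h7 : k * ε (.S m) = 6
    · have h6' := h6 h7
      rw [e1] at h7
      have h8 : k * m = 3 := by linarith
      have h9 : m ∣ 3 := ⟨k, by rw [← h8]; ring⟩
      rcases (Nat.dvd_prime Nat.prime_three).1 h9 with rfl | rfl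
      · omega
      · obtain rfl : k = 1 := by omega
        have hord : Nat.gcd 2 (2 ^ 1 - 1) * Nat.card X = (2 ^ 1) ^ (3 ^ 2) * pC (2 ^ 1) 3 := h
        exact no_small h6' hd hG hord (by decide) (by decide +kernel) (by decide +kernel)
    · exact hev e1 h7
  | U m =>
    exfalso
    have hm := hv.2.1
    by_cases h7 : k * ε (.U m) = 6
    · have h6' := h6 h7
      by_cases hm2 : m % 2 = 1
      · have e1 : ε (.U m) = 2 * m := by
          show (if m % 2 = 1 then 2 * m else 2 * (m - 1)) = _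
          rw [if_pos hm2]
        rw [e1] at h7
        have h8 : k * m = 3 := by linarith
        have h9 : m ∣ 3 := ⟨k, by rw [← h8]; ring⟩
        rcases (Nat.dvd_prime Nat.prime_three).1 h9 with rfl | rfl
        · omega
        · obtain rfl : k = 1 := by omega
          exact hv.2.2 ⟨rfl, by norm_num⟩
      · have e1 : ε (.U m) = 2 * (m - 1) := by
          show (if m % 2 = 1 then 2 * m else 2 * (m - 1)) = _
          rw [if_neg hm2]
        rw [e1] at h7
        have h8 : k * (m - 1) = 3 := by linarith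
        have h9 : (m - 1) ∣ 3 := ⟨k, by rw [← h8]; ring⟩
        rcases (Nat.dvd_prime Nat.prime_three).1 h9 with h10 | h10
        · omega
        · obtain rfl : m = 4 := by omega
          obtain rfl : k = 1 := by omega
          have hord : Nat.gcd 4 (2 ^ 1 + 1) * Nat.card X = (2 ^ 1) ^ (4 * (4 - 1) / 2) * pU (2 ^ 1) (4 - 1) := h
          exact no_small h6' hd hG hord (by decide) (by decide +kernel) (by decide +kernel)
    · by_cases hm2 : m % 2 = 1
      · exact hev (b := m) (by show (if m % 2 = 1 then 2 * m else 2 * (m - 1)) = _; rw [if_pos hm2]) h7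
      · exact hev (b := m - 1) (by show (if m % 2 = 1 then 2 * m else 2 * (m - 1)) = _; rw [if_neg hm2]) h7
  | OO m => exact absurd rfl hv.2.2
  | OP m =>
    exfalso
    have hm := hv.2
    have e1 : ε (.OP m) = 2 * (m - 1) := rfl
    by_cases h7 : k * ε (.OP m) = 6
    · have h6' := h6 h7
      rw [e1] at h7
      have h8 : k * (m - 1) = 3 := by linarith
      have h9 : (m - 1) ∣ 3 := ⟨k, by rw [← h8]; ring⟩
      rcases (Nat.dvd_prime Nat.prime_three).1 h9 with h10 | h10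
      · omega
      · obtain rfl : m = 4 := by omega
        obtain rfl : k = 1 := by omega
        have hord : Nat.gcd 4 ((2 ^ 1) ^ 4 - 1) * Nat.card X =
          (2 ^ 1) ^ (4 * (4 - 1)) * (((2 ^ 1) ^ 4 - 1) * pC (2 ^ 1) (4 - 1)) := h
        exact no_small h6' hd hG hord (by decide) (by decide +kernel) (by decide +kernel)
    · exact hev e1 h7
  | OM m =>
    exfalso
    have hm := hv.2
    have e1 : ε (.OM m) = 2 * m := rfl
    refine hev e1 fun h7 => ?_
    rw [e1] at h7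
    have h8 : k * m = 3 := by linarith
    have h9 := Nat.le_of_dvd (by norm_num) (⟨k, by rw [← h8]; ring⟩ : m ∣ 3)
    omega
  | G2 =>
    exfalso
    refine hev (b := 3) rfl fun h7 => ?_
    have h8 : k * 6 = 6 := h7
    obtain rfl : k = 1 := by omega
    have := hv.2
    norm_num at this
  | F4 => exact (hev (b := 6) rfl (by show k * 12 ≠ 6; omega)).elim
  | E6 => exact (hev (b := 6) rfl (by show k * 12 ≠ 6; omega)).elim
  | E7 => exact (hev (b := 9) rfl (by show k * 18 ≠ 6; omega)).elim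
  | E8 => exact (hev (b := 15) rfl (by show k * 30 ≠ 6; omega)).elim
  | TE6 => exact (hev (b := 9) rfl (by show k * 18 ≠ 6; omega)).elim
  | TD4 => exact (hev (b := 6) rfl (by show k * 12 ≠ 6; omega)).elim
  | SZ => exact (hev (b := 2) rfl (by show k * 4 ≠ 6; omega)).elim
  | TF4 => exact (hev (b := 6) rfl (by show k * 12 ≠ 6; omega)).elim
  | RG => exact absurd hv.1 (by norm_num)

end Cfsg.Agent.H535.Mers
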