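import Mathlib
import Cfsg.Agent.LieRecognition.HigmanSinger

/-!
Groups acting on an elementary abelian 2-group of order `2 ^ n` with `2 ^ n - 1` prime.
-/

set_option autoImplicit false

namespace Cfsg.Agent.H535.Mers

open MulAction

section

variable {V K : Type*} [AddCommGroup V] [Finite V] [Group K] [Finite K] [DistribMulAction K V] [FaithfulSMul K V]
  {r : ℕ} (hr : r.Prime) (hV : Nat.card V = r + 1)

include hr hV

/-- An `r`-group acting faithfully on a set with `r` nonzero points acts semiregularly. -/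
theorem stabilizer_eq_bot (hK : IsPGroup r K) {v : V} (hv : v ≠ 0) : stabilizer K v = ⊥ := by
  classical
  have : Fact r.Prime := ⟨hr⟩
  set S := stabilizer K v with hS
  have hSp : IsPGroup r S := hK.to_subgroup S
  have key : ∀ w : V, ∀ s : S, s • w = w := by
    intro w s
    by_cases hw0 : w = 0
    · rw [hw0, smul_zero]
    by_cases hwv : w = v
    · rw [hwv]; exact s.2
    have hsub : orbit S w ⊆ ({0, v} : Set V)ᶜ := by
      rintro _ ⟨x, rfl⟩ hx
      rcases hx with hx | hx
      · have hx' : x • w = 0 := hx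
        exact hw0 ((smul_eq_zero_iff_eq x).1 hx')
      · have hx' : x • w = v := hx
        have h1 : x⁻¹ • v = v := by rw [inv_smul_eq_iff]; exact x.2.symm
        rw [← hx', inv_smul_smul] at h1
        exact hwv (h1.trans hx')
    have hcard : (({0, v} : Set V)ᶜ).ncard = r - 1 := by
      rw [Set.ncard_compl, hV, Set.ncard_pair hv.symm]
      omega
    have h2 : (orbit S w).ncard ≤ r - 1 := by
      rw [← hcard]
      exact Set.ncard_le_ncard hsub (Set.toFinite _)
    have h3 : (orbit S w).ncard = (stabilizer S w).index := (index_stabilizer S w).symm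
    obtain ⟨j, hj⟩ := hSp.index (stabilizer S w)
    have hj0 : j = 0 := by
      by_contra h
      have h4 : r ≤ r ^ j := Nat.le_self_pow h r
      have := hr.two_le
      omega
    rw [hj0, pow_zero] at hj
    have h5 : stabilizer S w = ⊤ := Subgroup.index_eq_one.1 hj
    have h6 : s ∈ stabilizer S w := h5 ▸ Subgroup.mem_top s
    exact h6
  rw [eq_bot_iff]
  intro s hs
  rw [Subgroup.mem_bot]
  refine FaithfulSMul.eq_of_smul_eq_smul (α := V) fun w => ?_
  rw [one_smul]
  exact key w ⟨s, hs⟩

theorem card_dvd_of_isPGroup (hK : IsPGroup r K) : Nat.card K ∣ r := by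
  have : Fact r.Prime := ⟨hr⟩
  have h1 : 1 < Nat.card V := by have := hr.two_le; omega
  have : Nontrivial V := Finite.one_lt_card_iff_nontrivial.1 h1
  obtain ⟨v, hv⟩ := exists_ne (0 : V)
  have h2 : Nat.card K = (orbit K v).ncard := by
    rw [← index_stabilizer, stabilizer_eq_bot hr hV hK hv, Subgroup.index_bot]
  have hsub : orbit K v ⊆ ({0} : Set V)ᶜ := by
    rintro _ ⟨x, rfl⟩ hx
    have hx' : x • v = 0 := hx
    exact hv ((smul_eq_zero_iff_eq x).1 hx')
  have h3 : (orbit K v).ncard ≤ r := by
    have h4 : (({0} : Set V)ᶜ).ncard = r := by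
      rw [Set.ncard_compl, hV, Set.ncard_singleton]
      omega
    rw [← h4]
    exact Set.ncard_le_ncard hsub (Set.toFinite _)
  obtain ⟨j, hj⟩ := IsPGroup.iff_card.1 hK
  rw [← h2, hj] at h3
  rw [hj]
  have hj1 : j ≤ 1 := by
    by_contra h
    have : r ^ 2 ≤ r ^ j := Nat.pow_le_pow_right hr.pos (by omega)
    have := hr.two_le
    nlinarith
  calc r ^ j ∣ r ^ 1 := pow_dvd_pow r hj1
    _ = r := pow_one r

/-- A group of order `r` acts regularly on the nonzero vectors. -/
theorem regular (hK : Nat.card K = r) {v : V} (hv : v ≠ 0) :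
    (∀ w : V, w ≠ 0 → ∃ k : K, k • v = w) ∧ (∀ k l : K, k • v = l • v → k = l) := by
  have : Fact r.Prime := ⟨hr⟩
  have hKp : IsPGroup r K := IsPGroup.of_card (n := 1) (by rw [hK, pow_one])
  have h0 := stabilizer_eq_bot hr hV hKp hv
  have h2 : (orbit K v).ncard = r := by
    rw [← index_stabilizer, h0, Subgroup.index_bot, hK]
  have hsub : orbit K v ⊆ ({0} : Set V)ᶜ := by
    rintro _ ⟨x, rfl⟩ hx
    have hx' : x • v = 0 := hx
    exact hv ((smul_eq_zero_iff_eq x).1 hx')
  have h4 : (({0} : Set V)ᶜ).ncard = r := by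
    rw [Set.ncard_compl, hV, Set.ncard_singleton]
    omega
  have h5 : orbit K v = ({0} : Set V)ᶜ := Set.eq_of_subset_of_ncard_le hsub (by rw [h2, h4]) (Set.toFinite _)
  refine ⟨fun w hw => ?_, fun k l hkl => ?_⟩
  · have : w ∈ orbit K v := by rw [h5]; exact hw
    exact this
  · have h6 : l⁻¹ * k ∈ stabilizer K v := by
      rw [mem_stabilizer_iff, mul_smul, hkl, inv_smul_smul]
    rw [h0, Subgroup.mem_bot] at h6
    exact (inv_mul_eq_one.1 h6).symm

end

/-- **The normaliser of a Singer group**: if a group `N` acts faithfully on `V`, `|V| = 2 ^ n`, and has a normal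
subgroup of prime order `2 ^ n - 1`, then `|N|` divides `(2 ^ n - 1) * n`. -/
theorem card_dvd_of_normal {V N : Type*} [AddCommGroup V] [Finite V] [Group N] [Finite N] [DistribMulAction N V]
    [FaithfulSMul N V] {n : ℕ} (hr : (2 ^ n - 1).Prime) (hV : Nat.card V = 2 ^ n) (h2 : ∀ x : V, x + x = 0)
    (R : Subgroup N) (hRn : R.Normal) (hR : Nat.card R = 2 ^ n - 1) : ∃ m, m ∣ n ∧ Nat.card N = (2 ^ n - 1) * m := by
  have h2n : 1 ≤ 2 ^ n := Nat.one_le_two_pow
  have hV' : Nat.card V = (2 ^ n - 1) + 1 := by omega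
  have : Nontrivial V := Finite.one_lt_card_iff_nontrivial.1 (by have := hr.two_le; omega)
  obtain ⟨e0, h0⟩ := exists_ne (0 : V)
  have hfaith : FaithfulSMul R V := ⟨fun {a b} h => Subtype.ext (FaithfulSMul.eq_of_smul_eq_smul (α := V) h)⟩
  obtain ⟨hreg, hinj⟩ := regular (K := R) hr hV' hR h0
  have hcyc : IsCyclic R := by
    have : Fact (2 ^ n - 1).Prime := ⟨hr⟩
    exact isCyclic_of_prime_card hR
  have hcomm : ∀ a b : R, a * b = b * a := by
    have := IsCyclic.isMulCommutative (α := R)
    exact fun a b => mul_comm' a b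
  letI fld : Field V := LieRecognition.HigmanSinger.rfield e0 h0 hcomm hreg hinj
  have hmul : ∀ x y : V, x * y = LieRecognition.HigmanSinger.rmul e0 hreg x y := fun _ _ => rfl
  have hone : (1 : V) = e0 := rfl
  have hchar : CharP V 2 := CharTwo.of_one_ne_zero_of_two_eq_zero one_ne_zero (by
    rw [← one_add_one_eq_two]
    exact h2 1)
  letI alg : Algebra (ZMod 2) V := ZMod.algebra V 2
  have hfin : Module.finrank (ZMod 2) V = n := by
    have h1 := Module.natCard_eq_pow_finrank (K := ZMod 2) (V := V)
    rw [hV, Nat.card_zmod] at h1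
    exact (Nat.pow_right_injective le_rfl h1).symm
  have haut : Nat.card (V ≃ₐ[ZMod 2] V) = n := by
    rw [IsGalois.card_aut_eq_finrank, hfin]
  set S := stabilizer N e0 with hS
  have hsmul_mul : ∀ (s : N) (hs : s • e0 = e0) (x y : V), s • (x * y) = (s • x) * (s • y) := by
    intro s hs x y
    by_cases hx : x = 0
    · rw [hx, smul_zero, zero_mul, zero_mul, smul_zero]
    · obtain ⟨k, rfl⟩ := hreg x hx
      have hk' : s * (k : N) * s⁻¹ ∈ R := hRn.conj_mem _ k.2 s
      have e1 : s • (k • e0) = (⟨s * (k : N) * s⁻¹, hk'⟩ : R) • e0 := by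
        show s • ((k : N) • e0) = (s * (k : N) * s⁻¹) • e0
        rw [mul_smul, mul_smul]
        congr 2
        rw [eq_inv_smul_iff, hs]
      rw [e1, hmul, hmul, LieRecognition.HigmanSinger.rmul_smul e0 h0 hreg hinj,
        LieRecognition.HigmanSinger.rmul_smul e0 h0 hreg hinj]
      show s • ((k : N) • y) = (s * (k : N) * s⁻¹) • (s • y)
      rw [mul_smul, mul_smul, inv_smul_smul]
  let f : S →* (V ≃ₐ[ZMod 2] V) :=
    { toFun := fun s => AlgEquiv.ofRingEquiv (f :=
        { toFun := fun x => (s : N) • x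
          invFun := fun x => (s : N)⁻¹ • x
          left_inv := fun x => inv_smul_smul _ _
          right_inv := fun x => smul_inv_smul _ _
          map_mul' := hsmul_mul s s.2
          map_add' := fun x y => smul_add _ _ _ }) (fun c => by
            rcases (by decide +revert : c = 0 ∨ c = 1) with rfl | rfl
            · rw [map_zero]; exact map_zero _
            · rw [map_one]; exact map_one _)
      map_one' := by
        ext x
        exact one_smul N x
      map_mul' := fun s t => by
        ext x
        exact mul_smul (s : N) (t : N) x }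
  have hf : Function.Injective f := by
    intro s t hst
    apply Subtype.ext
    refine FaithfulSMul.eq_of_smul_eq_smul (α := V) fun x => ?_
    exact DFunLike.congr_fun hst x
  refine ⟨Nat.card S, ?_, ?_⟩
  · rw [← haut]
    exact Subgroup.card_dvd_of_injective f hf
  · have h3 : S.index = 2 ^ n - 1 := by
      rw [hS, index_stabilizer]
      have h5 : orbit N e0 = ({0} : Set V)ᶜ := by
        ext w
        constructor
        · rintro ⟨x, rfl⟩ hx
          have hx' : x • e0 = 0 := hx
          exact h0 ((smul_eq_zero_iff_eq x).1 hx')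
        · intro hw
          obtain ⟨k, hk⟩ := hreg w hw
          exact ⟨k, hk⟩
      rw [h5, Set.ncard_compl, hV, Set.ncard_singleton]
    rw [← S.card_mul_index, h3, mul_comm]

end Cfsg.Agent.H535.Mers
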